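import Cfsg.Agent.Lib.MonsterThree.Defs
import Cfsg.Agent.Lib.MonsterThree.SylowData

/-!
Numeric facts about the group of order 27 and the conjugators of its elements.
-/

set_option autoImplicit false
set_option maxRecDepth 100000
set_option maxHeartbeats 4000000
set_option Elab.async false

namespace Cfsg.Lib.MonsterThree

open Cfsg Cfsg.Lib.Concrete

/-- An element of the group of order 27, packed. -/
def syl (i : ℕ) : ℕ := sylPerms.getD i 0

/-- Two packed permutations are mutually inverse members of the Mathieu group. -/
def m24B (p q : ℕ) : Bool :=
  prodCheck p q pId && prodCheck q p pId &&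
    (bits24.all fun i => decide (pget p i < 24) && decide (pget q i < 24)) &&
    basisMasks.all (fun b => isCode (pimg p b) && decide (pimg p b < 16777216))

theorem syl_valid : (List.range 27).all (fun i => m24B (syl i) (sylInvs.getD i 0)) = true := by decide +kernel

theorem syl_closed : (List.range 27).all (fun i => (List.range 27).all fun j =>
    (List.range 27).any fun k => prodCheck (syl i) (syl j) (syl k)) = true := by
  decide +kernel

theorem syl_distinct : (List.range 27).all (fun i => (List.range 27).all fun j =>
    i == j || bits24.any fun a => !(pget (syl i) a == pget (syl j) a)) = true ∧ syl 0 = pId := by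
  decide +kernel

theorem target_check : sylTargets.getD 0 0 = sPow 1 ∧ sylTargets.getD 1 0 = sPow 2 ∧
    sylTargets.getD 2 0 = syl 1 ∧ sylTargets.getD 3 0 = syl 2 ∧
    ([1, 2].all fun c => (List.range 27).all fun j => (List.range 27).any fun k =>
      prodCheck (syl c) (syl j) (syl k) && prodCheck (syl j) (syl c) (syl k)) = true := by
  decide +kernel

theorem conj_check : (List.range 26).all (fun i => m24B (conjPerms.getD i 0) (conjInvs.getD i 0) &&
    decide (conjTargets.getD i 0 < 4) &&
    prodCheck (conjPerms.getD i 0) (syl (i + 1)) (conjProds.getD i 0) &&
    prodCheck (sylTargets.getD (conjTargets.getD i 0) 0) (conjPerms.getD i 0) (conjProds.getD i 0)) = true := by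
  decide +kernel

end Cfsg.Lib.MonsterThree
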