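import Cfsg.Agent.Lib.MonsterThree.Fixed
import Cfsg.Agent.Lib.MonsterThree.ChecksSyl

/-!
An element of order three of the Mathieu group is conjugate to a power of the permutation without fixed points
or centralizes a Sylow subgroup.
-/

set_option autoImplicit false
set_option maxRecDepth 100000
set_option Elab.async false

namespace Cfsg.Lib.MonsterThree

open Cfsg Cfsg.Lib.Concrete
open Cfsg.Lib.MonsterSeven (rep_apply')

theorem exists_perm_packed {p q : ℕ} (h1 : prodCheck p q pId = true) (h2 : prodCheck q p pId = true)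
    (h3 : (bits24.all fun i => decide (pget p i < 24) && decide (pget q i < 24)) = true) :
    ∃ g : Equiv.Perm GolayPt, Rep g p ∧ Rep g⁻¹ q := by
  simp only [prodCheck, List.all_eq_true, Bool.and_eq_true, decide_eq_true_eq, Nat.beq_eq] at h1 h2 h3
  have hid : ∀ x : GolayPt, pget pId (gidx x).val = (gidx x).val := fun x => (rep_one x).symm
  let f : GolayPt → GolayPt := fun x => gpt (Fin.ofNat 24 (pget p (gidx x).val))
  let f' : GolayPt → GolayPt := fun x => gpt (Fin.ofNat 24 (pget q (gidx x).val))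
  have hf : ∀ x, (gidx (f x)).val = pget p (gidx x).val := fun x => by
    simp only [f, gidx_gpt, Fin.val_ofNat]
    exact Nat.mod_eq_of_lt (h3 _ (mem_bits24.2 (gidx x).isLt)).1
  have hf' : ∀ x, (gidx (f' x)).val = pget q (gidx x).val := fun x => by
    simp only [f', gidx_gpt, Fin.val_ofNat]
    exact Nat.mod_eq_of_lt (h3 _ (mem_bits24.2 (gidx x).isLt)).2
  refine ⟨{ toFun := f, invFun := f', left_inv := fun x => gidx_injective (Fin.ext ?_),
            right_inv := fun x => gidx_injective (Fin.ext ?_) }, hf, hf'⟩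
  · rw [hf', hf, ← h2 _ (mem_bits24.2 (gidx x).isLt), hid]
  · rw [hf, hf', ← h1 _ (mem_bits24.2 (gidx x).isLt), hid]

theorem exists_m24 {p q : ℕ} (h : m24B p q = true) : ∃ g : M24, Concrete.Rep g.1 p := by
  simp only [m24B, Bool.and_eq_true] at h
  obtain ⟨⟨⟨h1, h2⟩, h3⟩, h4⟩ := h
  obtain ⟨g, hg, -⟩ := exists_perm_packed h1 h2 h3
  exact ⟨⟨g, rep_mem_M24 hg h4⟩, hg⟩

theorem m24_ext {g h : M24} {p : ℕ} (hg : Concrete.Rep g.1 p) (hh : Concrete.Rep h.1 p) : g = h :=
  Subtype.ext (hg.ext hh)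

theorem syl_exists (i : Fin 27) : ∃ g : M24, Concrete.Rep g.1 (syl i) :=
  exists_m24 (List.all_eq_true.1 syl_valid i (List.mem_range.2 i.2))

/-- The elements of the group of order 27. -/
noncomputable def sylE (i : Fin 27) : M24 := (syl_exists i).choose

theorem sylE_rep (i : Fin 27) : Concrete.Rep (sylE i).1 (syl i) := (syl_exists i).choose_spec

theorem sylE_zero : sylE 0 = 1 := by
  refine m24_ext (sylE_rep 0) ?_
  show Concrete.Rep 1 (syl 0)
  rw [syl_distinct.2]
  exact rep_one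

theorem sylE_mul (i j : Fin 27) : ∃ k, sylE i * sylE j = sylE k := by
  obtain ⟨k, hk, h⟩ := List.any_eq_true.1
    (List.all_eq_true.1 (List.all_eq_true.1 syl_closed i (List.mem_range.2 i.2)) j (List.mem_range.2 j.2))
  exact ⟨⟨k, List.mem_range.1 hk⟩, m24_ext ((sylE_rep i).mul (sylE_rep j) h) (sylE_rep _)⟩

theorem sylE_injective : Function.Injective sylE := by
  intro i j h
  have t := List.all_eq_true.1 (List.all_eq_true.1 syl_distinct.1 i (List.mem_range.2 i.2)) j (List.mem_range.2 j.2)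
  simp only [Bool.or_eq_true, beq_iff_eq, List.any_eq_true, Bool.not_eq_true', beq_eq_false_iff_ne] at t
  rcases t with t | ⟨a, ha, t⟩
  · exact Fin.ext t
  refine absurd ?_ t
  have hi := sylE_rep i (gpt ⟨a, mem_bits24.1 ha⟩)
  rw [h, sylE_rep j, gidx_gpt] at hi
  exact hi.symm

/-- The group of order 27. -/
noncomputable def sylT : Subgroup M24 where
  carrier := Set.range sylE
  one_mem' := ⟨0, sylE_zero⟩
  mul_mem' := by
    rintro _ _ ⟨i, rfl⟩ ⟨j, rfl⟩
    obtain ⟨k, hk⟩ := sylE_mul i j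
    exact ⟨k, hk.symm⟩
  inv_mem' := by
    rintro _ ⟨i, rfl⟩
    have hp : ∀ n : ℕ, sylE i ^ n ∈ Set.range sylE := by
      intro n
      induction n with
      | zero => exact ⟨0, sylE_zero.trans (pow_zero _).symm⟩
      | succ n ih =>
        obtain ⟨j, hj⟩ := ih
        obtain ⟨k, hk⟩ := sylE_mul j i
        exact ⟨k, by rw [pow_succ, ← hj, hk]⟩
    rw [show (sylE i)⁻¹ = sylE i ^ (orderOf (sylE i) - 1) from
      inv_eq_of_mul_eq_one_right (by
        rw [← pow_succ', Nat.sub_add_cancel (orderOf_pos _), pow_orderOf_eq_one])]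
    exact hp _

theorem card_sylT : Nat.card sylT = 27 := by
  rw [show Nat.card sylT = Nat.card (Set.range sylE) from rfl, Nat.card_range_of_injective sylE_injective,
    Nat.card_eq_fintype_card, Fintype.card_fin]

theorem factorization_M24 : (Nat.card M24).factorization 3 = 3 := by
  rw [card_M24, show 244823040 = 3 ^ 3 * 9067520 by norm_num, Nat.factorization_mul (by norm_num) (by norm_num),
    Finsupp.add_apply, Nat.Prime.factorization_pow Nat.prime_three, Finsupp.single_eq_same,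
    Nat.factorization_eq_zero_of_not_dvd (by norm_num)]

/-- The permutation, in the Mathieu group. -/
def sigM : M24 := ⟨sigma, sigma_mem⟩

theorem rep_sigM_two : Concrete.Rep (sigM ^ 2).1 (sPow 2) := by
  rw [SubmonoidClass.coe_pow]
  exact rep_pow 2 (by norm_num)

theorem order_three_cases (τ : M24) (h3 : τ ^ 3 = 1) (h1 : τ ≠ 1) :
    (∃ h : M24, h * τ * h⁻¹ = sigM ∨ h * τ * h⁻¹ = sigM ^ 2) ∨
      ∃ T : Subgroup M24, Nat.card T = 27 ∧ τ ∈ T ∧ ∀ x ∈ T, x * τ = τ * x := by
  haveI : Fact (Nat.Prime 3) := ⟨Nat.prime_three⟩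
  haveI : Finite M24 := Nat.finite_of_card_ne_zero (by rw [card_M24]; norm_num)
  have hp : IsPGroup 3 (Subgroup.zpowers τ) :=
    IsPGroup.of_card (n := 1) (by rw [Nat.card_zpowers, orderOf_eq_prime h3 h1, pow_one])
  obtain ⟨P, hP⟩ := hp.exists_le_sylow
  obtain ⟨g, hg⟩ := MulAction.exists_smul_eq M24 P
    (Sylow.ofCard sylT (by rw [card_sylT, factorization_M24]; rfl))
  have hgT : g * τ * g⁻¹ ∈ sylT := by
    have h := congrArg (fun S : Sylow 3 M24 => (S : Subgroup M24)) hg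
    simp only [Sylow.coe_subgroup_smul, Sylow.coe_ofCard] at h
    rw [← h]
    exact ⟨τ, hP (Subgroup.mem_zpowers τ), rfl⟩
  obtain ⟨i, hi⟩ := hgT
  have hi0 : (i : ℕ) ≠ 0 := by
    intro h0
    rw [show i = 0 from Fin.ext h0, sylE_zero] at hi
    exact h1 (conj_eq_one_iff.1 hi.symm)
  obtain ⟨j, hij⟩ : ∃ j, (i : ℕ) = j + 1 := ⟨_, (Nat.sub_add_cancel (Nat.pos_of_ne_zero hi0)).symm⟩
  have hj : j < 26 := by have := i.2; omega
  have t := List.all_eq_true.1 conj_check j (List.mem_range.2 hj)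
  simp only [Bool.and_eq_true, decide_eq_true_eq] at t
  obtain ⟨⟨⟨hm, hk⟩, hx⟩, hy⟩ := t
  obtain ⟨h, hh⟩ := exists_m24 hm
  have hri := sylE_rep i
  rw [hij] at hri
  obtain ⟨tc0, tc1, tc2, tc3, hcomm⟩ := target_check
  have key : ∀ T : M24, Concrete.Rep T.1 (sylTargets.getD (conjTargets.getD j 0) 0) →
      h * g * τ * (h * g)⁻¹ = T := by
    intro T hT
    have e : h * sylE i = T * h := m24_ext (hh.mul hri hx) (hT.mul hh hy)
    rw [show h * g * τ * (h * g)⁻¹ = h * (g * τ * g⁻¹) * h⁻¹ by group, ← hi, e, mul_inv_cancel_right]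
  have central : ∀ c : Fin 27, (c : ℕ) = 1 ∨ (c : ℕ) = 2 →
      Concrete.Rep (sylE c).1 (sylTargets.getD (conjTargets.getD j 0) 0) →
      ∃ T : Subgroup M24, Nat.card T = 27 ∧ τ ∈ T ∧ ∀ x ∈ T, x * τ = τ * x := by
    intro c hc hT
    have e := key _ hT
    have hτ : τ = (h * g)⁻¹ * sylE c * (h * g) := by rw [← e]; group
    refine ⟨sylT.map (MulAut.conj (h * g)⁻¹).toMonoidHom, ?_, ⟨sylE c, ⟨c, rfl⟩, ?_⟩, ?_⟩
    · rw [Subgroup.card_map_of_injective (MulAut.conj (h * g)⁻¹).injective, card_sylT]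
    · show MulAut.conj (h * g)⁻¹ (sylE c) = τ
      rw [MulAut.conj_apply, inv_inv, ← hτ]
    · rintro _ ⟨_, ⟨d, rfl⟩, rfl⟩
      have hc' : (c : ℕ) ∈ ([1, 2] : List ℕ) := by simpa using hc
      obtain ⟨k, -, hk2⟩ := List.any_eq_true.1
        (List.all_eq_true.1 (List.all_eq_true.1 hcomm c hc') d (List.mem_range.2 d.2))
      simp only [Bool.and_eq_true] at hk2
      have hcd : sylE c * sylE d = sylE d * sylE c :=
        m24_ext ((sylE_rep c).mul (sylE_rep d) hk2.1) ((sylE_rep d).mul (sylE_rep c) hk2.2)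
      rw [hτ, show MulEquiv.toMonoidHom (MulAut.conj (h * g)⁻¹) (sylE d) = (h * g)⁻¹ * sylE d * (h * g) by
        show MulAut.conj (h * g)⁻¹ (sylE d) = _
        rw [MulAut.conj_apply, inv_inv]]
      calc (h * g)⁻¹ * sylE d * (h * g) * ((h * g)⁻¹ * sylE c * (h * g))
          = (h * g)⁻¹ * (sylE d * sylE c) * (h * g) := by group
        _ = (h * g)⁻¹ * (sylE c * sylE d) * (h * g) := by rw [hcd]
        _ = _ := by group
  obtain ⟨n, hn⟩ : ∃ n, conjTargets.getD j 0 = n := ⟨_, rfl⟩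
  rw [hn] at hk key central
  interval_cases n
  · exact Or.inl ⟨h * g, Or.inl (key sigM (tc0 ▸ rep_sigma))⟩
  · exact Or.inl ⟨h * g, Or.inr (key _ (tc1 ▸ rep_sigM_two))⟩
  · exact Or.inr (central 1 (Or.inl rfl) (tc2 ▸ sylE_rep 1))
  · exact Or.inr (central 2 (Or.inr rfl) (tc3 ▸ sylE_rep 2))

end Cfsg.Lib.MonsterThree
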