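import Cfsg.Agent.Lib.MonsterThree.Defs

/-!
Numeric facts bounding the centralizer of the permutation of order three in the Mathieu group.
-/

set_option autoImplicit false
set_option maxRecDepth 100000
set_option maxHeartbeats 4000000
set_option Elab.async false

namespace Cfsg.Lib.MonsterThree

open Cfsg Cfsg.Lib.Concrete

/-- The first special point. -/
def ptA : ℕ := sigReps.getD 0 0

/-- The second special point. -/
def ptB : ℕ := sigReps.getD 1 0

/-- The third special point. -/
def ptC : ℕ := sigReps.getD 2 0

/-- The orbit of a point. -/
def orb3 (i : ℕ) : List ℕ := [i, pget (sPow 1) i, pget (sPow 1) (pget (sPow 1) i)]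

/-- The points with known images. -/
def knownPts : List ℕ := orb3 ptA ++ orb3 ptB ++ orb3 ptC

/-- Their images. -/
def knownImgs (x y : ℕ) : List ℕ := orb3 ptA ++ orb3 x ++ orb3 y

/-- The image of a known point. -/
def imgOf (x y i : ℕ) : ℕ := (knownImgs x y).getD (knownPts.idxOf i) 0

/-- The octads of an entry show that the images are impossible. -/
def refB (e : List ℕ) : Bool :=
  let x := e.getD 0 0
  let y := e.getD 1 0
  let o := e.getD 2 0
  let o' := e.getD 3 0
  let p := e.getD 4 0
  let five := e.drop 5
  five.length == 5 && decide five.Nodup &&
    five.all (fun i => decide (i < 24) && knownPts.contains i && o.testBit i && o'.testBit (imgOf x y i)) &&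
    knownPts.contains p && (o.testBit p != o'.testBit (imgOf x y p))

/-- The octads named in the entries. -/
def refOcts (e : List ℕ) : Bool := octList.contains (e.getD 2 0) && octList.contains (e.getD 3 0)

theorem refute_check : refutes.all (fun e => refB e && refOcts e) = true ∧
    badPts.all (fun x => bits24.all fun y => (orb3 ptA).contains y || (orb3 x).contains y ||
      refutes.any (fun e => e.getD 0 0 == x && e.getD 1 0 == y)) = true := by
  decide +kernel

theorem points_check : bits24.all (fun x => (orb3 ptA).contains x || goodPts.contains x || badPts.contains x) = true ∧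
    goodPts.length = 7 ∧ (orb3 ptA ++ orb3 ptB).Nodup ∧ knownPts.Nodup ∧
    knownPts.all (fun i => decide (i < 24)) = true := by
  decide +kernel

theorem six_check : octList.all (fun o => !((orb3 ptA ++ orb3 ptB).all fun i => o.testBit i)) = true := by
  decide +kernel

end Cfsg.Lib.MonsterThree
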