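import Cfsg.Agent.Lib.MonsterThree.Fixed
import Cfsg.Agent.Lib.MonsterThree.ChecksCount
import Cfsg.Agent.Lib.Concrete.SixPoints

/-!
At most 504 permutations of the Mathieu group centralize the permutation of order three, and at most 8064 monomial
automorphisms centralize the automorphism of order three.
-/

set_option autoImplicit false
set_option maxRecDepth 100000
set_option Elab.async false

namespace Cfsg.Lib.MonsterThree

open Cfsg Cfsg.Lib.Concrete
open Cfsg.Lib.MonsterSeven (rep_apply' gpt_val)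
open scoped Pointwise

/-- A point from its number. -/
def ptOf (i : ℕ) : GolayPt := gpt (Fin.ofNat 24 i)

theorem gidx_ptOf {i : ℕ} (hi : i < 24) : (gidx (ptOf i)).val = i := by
  simp [ptOf, gidx_gpt, Fin.ofNat, Nat.mod_eq_of_lt hi]

theorem sigma_ptOf {i : ℕ} (hi : i < 24) : sigma (ptOf i) = ptOf (pget (sPow 1) i) := by
  rw [rep_apply' rep_sigma, gidx_ptOf hi]
  rfl

theorem ptOf_injOn : Set.InjOn ptOf {i | i < 24} := fun i hi j hj h => by
  have := congrArg (fun p => (gidx p).val) h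
  simpa [gidx_ptOf hi, gidx_ptOf hj] using this

/-- The bound by cosets. -/
theorem card_le_mul {Γ α : Type*} [Group Γ] [Finite Γ] (H : Subgroup Γ) (φ : Γ → α) (S : Set α) (hS : S.Finite)
    (hφS : ∀ g, φ g ∈ S) (hφ : ∀ g g', φ g = φ g' → g⁻¹ * g' ∈ H) : Nat.card Γ ≤ S.ncard * Nat.card H := by
  haveI := hS.to_subtype
  rw [← Subgroup.index_mul_card H]
  refine Nat.mul_le_mul_right _ ?_
  rw [Subgroup.index, ← Nat.card_coe_set_eq]
  refine Nat.card_le_card_of_injective (fun q : Γ ⧸ H => (⟨φ q.out, hφS _⟩ : S)) fun q q' h => ?_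
  rw [← QuotientGroup.out_eq' q, ← QuotientGroup.out_eq' q', QuotientGroup.eq]
  exact hφ _ _ (congrArg Subtype.val h)

/-- The permutation, in the Mathieu group. -/
def sM : M24 := ⟨sigma, sigma_mem⟩

/-- The centralizer in the Mathieu group. -/
abbrev cenP : Subgroup M24 := Subgroup.centralizer ({sM} : Set M24)

theorem cenP_apply (g : cenP) (p : GolayPt) : g.1.1 (sigma p) = sigma (g.1.1 p) :=
  congrArg (fun h : M24 => h.1 p) (Subgroup.mem_centralizer_singleton_iff.1 g.2)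

theorem orb_map (g : cenP) {i x : ℕ} (hi : i < 24) (hx : x < 24) (h : g.1.1 (ptOf i) = ptOf x) :
    g.1.1 (ptOf (pget (sPow 1) i)) = ptOf (pget (sPow 1) x) := by
  rw [← sigma_ptOf hi, cenP_apply, h, sigma_ptOf hx]

theorem orb_lt : ∀ i : Fin 24, pget (sPow 1) i < 24 := by decide +kernel

theorem orb3_map (g : cenP) {i x : ℕ} (hi : i < 24) (hx : x < 24) (h : g.1.1 (ptOf i) = ptOf x) (j : ℕ) (hj : j < 3) :
    g.1.1 (ptOf ((orb3 i).getD j 0)) = ptOf ((orb3 x).getD j 0) := by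
  interval_cases j
  · exact h
  · exact orb_map g hi hx h
  · exact orb_map g (orb_lt ⟨i, hi⟩) (orb_lt ⟨x, hx⟩) (orb_map g hi hx h)

theorem orb3_ptA_lt : ∀ j : Fin 3, (orb3 ptA).getD j 0 < 24 ∧ ptA < 24 ∧ ptB < 24 ∧ ptC < 24 := by decide +kernel

theorem mem_knownPts {i : ℕ} (h : i ∈ knownPts) : i < 24 :=
  of_decide_eq_true (List.all_eq_true.1 points_check.2.2.2.2 i h)

theorem known_map (g : cenP) {x y : ℕ} (hx : x < 24) (hy : y < 24) (ha : g.1.1 (ptOf ptA) = ptOf ptA)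
    (hb : g.1.1 (ptOf ptB) = ptOf x) (hc : g.1.1 (ptOf ptC) = ptOf y) {i : ℕ} (hi : i ∈ knownPts) :
    g.1.1 (ptOf i) = ptOf (imgOf x y i) := by
  obtain ⟨-, la, lb, lc⟩ := orb3_ptA_lt 0
  have h9 : ∀ j, j < 9 → g.1.1 (ptOf (knownPts.getD j 0)) = ptOf ((knownImgs x y).getD j 0) := by
    intro j hj
    interval_cases j
    · exact orb3_map g la la ha 0 (by norm_num)
    · exact orb3_map g la la ha 1 (by norm_num)
    · exact orb3_map g la la ha 2 (by norm_num)
    · exact orb3_map g lb hx hb 0 (by norm_num)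
    · exact orb3_map g lb hx hb 1 (by norm_num)
    · exact orb3_map g lb hx hb 2 (by norm_num)
    · exact orb3_map g lc hy hc 0 (by norm_num)
    · exact orb3_map g lc hy hc 1 (by norm_num)
    · exact orb3_map g lc hy hc 2 (by norm_num)
  have hlt : knownPts.idxOf i < knownPts.length := List.idxOf_lt_length_iff.2 hi
  have h := h9 _ (hlt.trans_le (by simp [knownPts, orb3]))
  rwa [List.getD_eq_getElem _ _ hlt, List.getElem_idxOf hlt] at h

theorem refuted (g : cenP) {e : List ℕ} (he : e ∈ refutes) (ha : g.1.1 (ptOf ptA) = ptOf ptA)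
    (hx : e.getD 0 0 < 24) (hy : e.getD 1 0 < 24) (hb : g.1.1 (ptOf ptB) = ptOf (e.getD 0 0))
    (hc : g.1.1 (ptOf ptC) = ptOf (e.getD 1 0)) : False := by
  have h := List.all_eq_true.1 refute_check.1 e he
  simp only [refB, refOcts, Bool.and_eq_true, beq_iff_eq, decide_eq_true_eq, List.all_eq_true,
    List.contains_iff_mem, bne_iff_ne] at h
  obtain ⟨⟨⟨⟨⟨hlen, hnd⟩, hfive⟩, hp⟩, hne⟩, ho, ho'⟩ := h
  have hm := (mset_mem_octads_iff (octList_lt ho)).2 ho
  have hm' := (mset_mem_octads_iff (octList_lt ho')).2 ho'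
  have hmem : ∀ {m i : ℕ}, i < 24 → (ptOf i ∈ mset m ↔ m.testBit i = true) := fun {m i} hi => by
    rw [mem_mset, gidx_ptOf hi]
  have himg : ∀ i ∈ knownPts, imgOf (e.getD 0 0) (e.getD 1 0) i < 24 → ∀ m, (g.1.1 (ptOf i) ∈ mset m ↔
      m.testBit (imgOf (e.getD 0 0) (e.getD 1 0) i) = true) := fun i hi hlt m => by
    rw [known_map g hx hy ha hb hc hi, hmem hlt]
  have hlt' : ∀ i ∈ knownPts, imgOf (e.getD 0 0) (e.getD 1 0) i < 24 := by
    intro i hi
    have hl : ∀ j : Fin 24, j.val < 24 ∧ pget (sPow 1) j < 24 := fun j => ⟨j.2, orb_lt j⟩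
    have o3 : ∀ v, v < 24 → ∀ u ∈ orb3 v, u < 24 := by
      intro v hv u hu
      simp only [orb3, List.mem_cons, List.not_mem_nil, or_false] at hu
      rcases hu with rfl | rfl | rfl
      · exact hv
      · exact orb_lt ⟨v, hv⟩
      · exact orb_lt ⟨_, orb_lt ⟨v, hv⟩⟩
    have hk : knownPts.idxOf i < (knownImgs (e.getD 0 0) (e.getD 1 0)).length := by
      have := List.idxOf_lt_length_iff.2 hi
      simpa [knownPts, knownImgs, orb3] using this
    rw [imgOf, List.getD_eq_getElem _ _ hk]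
    have hin := List.getElem_mem hk
    simp only [knownImgs, List.mem_append] at hin
    rcases hin with (h1 | h1) | h1
    · exact o3 _ (orb3_ptA_lt 0).2.1 _ h1
    · exact o3 _ hx _ h1
    · exact o3 _ hy _ h1
  set s : Finset GolayPt := (e.drop 5).toFinset.image fun i => g.1.1 (ptOf i) with hs
  have hcard : 5 ≤ s.card := by
    rw [hs, Finset.card_image_of_injOn, List.toFinset_card_of_nodup hnd, hlen]
    intro i hi j hj hij
    exact ptOf_injOn (hfive i (List.mem_toFinset.1 hi)).1.1.1 (hfive j (List.mem_toFinset.1 hj)).1.1.1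
      (g.1.1.injective hij)
  have heq : g.1.1 • mset (e.getD 2 0) = mset (e.getD 3 0) := by
    refine octads_eq_of_five (smul_octad_mem g.1.2 hm) hm' hcard ?_ ?_
    · intro u hu
      obtain ⟨i, hi, rfl⟩ := Finset.mem_image.1 hu
      obtain ⟨⟨⟨hi24, hik⟩, hio⟩, hio'⟩ := hfive i (List.mem_toFinset.1 hi)
      exact Finset.mem_smul_finset.2 ⟨ptOf i, (hmem hi24).2 hio, rfl⟩
    · intro u hu
      obtain ⟨i, hi, rfl⟩ := Finset.mem_image.1 hu
      obtain ⟨⟨⟨hi24, hik⟩, hio⟩, hio'⟩ := hfive i (List.mem_toFinset.1 hi)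
      exact (himg i hik (hlt' i hik) _).2 hio'
  have := (Finset.smul_mem_smul_finset_iff g.1.1 (s := mset (e.getD 2 0)) (b := ptOf (e.getD 4 0)))
  rw [heq, Equiv.Perm.smul_def, himg _ hp (hlt' _ hp), hmem (mem_knownPts hp)] at this
  exact hne (Bool.eq_iff_iff.2 this.symm)

/-- The stabilizer of the first special point. -/
def stA : Subgroup cenP where
  carrier := {g | g.1.1 (ptOf ptA) = ptOf ptA}
  one_mem' := rfl
  mul_mem' := fun {g h} hg hh => by
    show g.1.1 (h.1.1 (ptOf ptA)) = ptOf ptA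
    rw [show h.1.1 (ptOf ptA) = ptOf ptA from hh]; exact hg
  inv_mem' := fun {g} hg => (Equiv.symm_apply_eq g.1.1).2 (hg : g.1.1 (ptOf ptA) = ptOf ptA).symm

/-- The stabilizer of two special points. -/
def stAB : Subgroup stA where
  carrier := {g | g.1.1.1 (ptOf ptB) = ptOf ptB}
  one_mem' := rfl
  mul_mem' := fun {g h} hg hh => by
    show g.1.1.1 (h.1.1.1 (ptOf ptB)) = ptOf ptB
    rw [show h.1.1.1 (ptOf ptB) = ptOf ptB from hh]; exact hg
  inv_mem' := fun {g} hg => (Equiv.symm_apply_eq g.1.1.1).2 (hg : g.1.1.1 (ptOf ptB) = ptOf ptB).symm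

theorem sep_check : ptB ∉ orb3 ptA ∧ ptC ∉ orb3 ptA ∧ ptC ∉ orb3 ptB := by decide +kernel

theorem orb3_lt {v : ℕ} (hv : v < 24) : ∀ u ∈ orb3 v, u < 24 := by
  intro u hu
  simp only [orb3, List.mem_cons, List.not_mem_nil, or_false] at hu
  rcases hu with rfl | rfl | rfl
  · exact hv
  · exact orb_lt ⟨v, hv⟩
  · exact orb_lt ⟨_, orb_lt ⟨v, hv⟩⟩

theorem exists_getD_orb3 {v u : ℕ} (hu : u ∈ orb3 v) : ∃ j, j < 3 ∧ (orb3 v).getD j 0 = u := by
  obtain ⟨j, hj, e⟩ := List.mem_iff_getElem.1 hu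
  exact ⟨j, hj, by rw [List.getD_eq_getElem _ _ hj, e]⟩

/-- A point outside an orbit is not mapped into its image. -/
theorem image_not_mem (g : cenP) {v w i u : ℕ} (hv : v < 24) (hw : w < 24) (hi : i < 24)
    (h : g.1.1 (ptOf v) = ptOf w) (hn : i ∉ orb3 v) (hu : g.1.1 (ptOf i) = ptOf u) : u ∉ orb3 w := by
  intro hmem
  obtain ⟨j, hj, e⟩ := exists_getD_orb3 hmem
  have h1 := orb3_map g hv hw h j hj
  rw [e, ← hu] at h1
  have hlen : j < (orb3 v).length := hj
  have hin : (orb3 v).getD j 0 ∈ orb3 v := by rw [List.getD_eq_getElem _ _ hlen]; exact List.getElem_mem hlen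
  have h2 := ptOf_injOn (orb3_lt hv _ hin) hi (g.1.1.injective h1)
  exact hn (h2 ▸ hin)

theorem good_image (g : stA) : ∃ x ∈ goodPts, g.1.1.1 (ptOf ptB) = ptOf x := by
  obtain ⟨-, la, lb, lc⟩ := orb3_ptA_lt 0
  have ha : g.1.1.1 (ptOf ptA) = ptOf ptA := g.2
  obtain ⟨x, hx24, hgx⟩ : ∃ x, x < 24 ∧ g.1.1.1 (ptOf ptB) = ptOf x :=
    ⟨_, (gidx (g.1.1.1 (ptOf ptB))).isLt, (gpt_val _).symm⟩
  obtain ⟨y, hy24, hgy⟩ : ∃ y, y < 24 ∧ g.1.1.1 (ptOf ptC) = ptOf y :=
    ⟨_, (gidx (g.1.1.1 (ptOf ptC))).isLt, (gpt_val _).symm⟩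
  have t := List.all_eq_true.1 points_check.1 x (mem_bits24.2 hx24)
  simp only [Bool.or_eq_true, List.contains_iff_mem] at t
  rcases t with (t | t) | t
  · exact absurd t (image_not_mem g.1 la la lb ha sep_check.1 hgx)
  · exact ⟨x, t, hgx⟩
  exfalso
  have t2 := List.all_eq_true.1 (List.all_eq_true.1 refute_check.2 x t) y (mem_bits24.2 hy24)
  simp only [Bool.or_eq_true, List.contains_iff_mem, List.any_eq_true, Bool.and_eq_true, beq_iff_eq] at t2
  rcases t2 with (t2 | t2) | ⟨e, he, he0, he1⟩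
  · exact image_not_mem g.1 la la lc ha sep_check.2.1 hgy t2
  · exact image_not_mem g.1 lb hx24 lc hgx sep_check.2.2 hgy t2
  · subst he0 he1
    exact refuted g.1 he ha hx24 hy24 hgx hgy

theorem card_stAB : Nat.card stAB ≤ 3 := by
  classical
  set E : Finset GolayPt := ((orb3 ptA ++ orb3 ptB).toFinset.image ptOf) with hE
  obtain ⟨-, la, lb, lc⟩ := orb3_ptA_lt 0
  have hlt : ∀ i ∈ orb3 ptA ++ orb3 ptB, i < 24 := fun i hi => mem_knownPts (List.mem_append_left _ hi)
  have hcard : E.card = 6 := by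
    rw [hE, Finset.card_image_of_injOn, List.toFinset_card_of_nodup points_check.2.2.1]
    · rfl
    · exact fun i hi j hj h => ptOf_injOn (hlt i (List.mem_toFinset.1 hi)) (hlt j (List.mem_toFinset.1 hj)) h
  have hin : ¬ InOctad E := by
    rintro ⟨o, ho, hsub⟩
    obtain ⟨m, hm, rfl⟩ := mem_octads_iff.1 ho
    have t := List.all_eq_true.1 six_check m hm
    simp only [Bool.not_eq_true', ← Bool.not_eq_true, List.all_eq_true] at t
    refine t fun i hi => ?_
    have := hsub (Finset.mem_image_of_mem ptOf (List.mem_toFinset.2 hi))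
    rwa [mem_mset, gidx_ptOf (hlt i hi)] at this
  rw [← (card_fixSet_six hcard).2 hin]
  refine Nat.card_le_card_of_injective (fun g => (⟨g.1.1.1.1, mem_fixSet.2 ⟨g.1.1.1.2, fun u hu => ?_⟩⟩ : fixSet E))
    fun g h e => Subtype.ext (Subtype.ext (Subtype.ext (Subtype.ext
      (congrArg (fun k : fixSet E => (k : Equiv.Perm GolayPt)) e))))
  obtain ⟨i, hi, rfl⟩ := Finset.mem_image.1 hu
  have ha : g.1.1.1.1 (ptOf ptA) = ptOf ptA := g.1.2
  have hb : g.1.1.1.1 (ptOf ptB) = ptOf ptB := g.2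
  have oa := orb3_map g.1.1 la la ha
  have ob := orb3_map g.1.1 lb lb hb
  simp only [List.mem_toFinset, List.mem_append, orb3, List.mem_cons, List.not_mem_nil, or_false] at hi
  rcases hi with (rfl | rfl | rfl) | (rfl | rfl | rfl)
  exacts [ha, oa 1 (by norm_num), oa 2 (by norm_num), hb, ob 1 (by norm_num), ob 2 (by norm_num)]

theorem card_cenP : Nat.card cenP ≤ 504 := by
  have hA : Nat.card stA ≤ 7 * 3 := by
    refine (card_le_mul stAB (fun g => g.1.1.1 (ptOf ptB)) (goodPts.toFinset.image ptOf : Set GolayPt)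
      (Finset.finite_toSet _) (fun g => ?_) fun g g' h => ?_).trans ?_
    · obtain ⟨x, hx, e⟩ := good_image g
      exact Finset.mem_coe.2 (Finset.mem_image.2 ⟨x, List.mem_toFinset.2 hx, e.symm⟩)
    · show (g.1.1.1)⁻¹ (g'.1.1.1 (ptOf ptB)) = ptOf ptB
      rw [← h]; simp
    · rw [Set.ncard_coe_finset]
      exact Nat.mul_le_mul (Finset.card_image_le.trans ((List.toFinset_card_le _).trans points_check.2.1.le)) card_stAB
  refine (card_le_mul stA (fun g => g.1.1 (ptOf ptA)) Set.univ Set.finite_univ (fun g => Set.mem_univ _)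
    fun g g' h => ?_).trans ?_
  · show (g.1.1)⁻¹ (g'.1.1 (ptOf ptA)) = ptOf ptA
    rw [← h]; simp
  · rw [Set.ncard_univ, Nat.card_eq_fintype_card, show Fintype.card GolayPt = 24 from rfl]
    calc 24 * Nat.card stA ≤ 24 * (7 * 3) := Nat.mul_le_mul_left _ hA
      _ = 504 := rfl

end Cfsg.Lib.MonsterThree
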