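import Cfsg.Agent.Lib.MonsterLocal.Place
import Cfsg.Agent.Lib.Concrete.LeechSimpleGroups

/-!
The common centralizer of two commuting central involutions maps onto the Mathieu group with a 2-group as kernel.
-/

set_option autoImplicit false

namespace Cfsg.Lib.MonsterThree

open Cfsg Cfsg.Lib.Concrete Cfsg.Lib.MonsterLocal

variable {G : Type*} [Group G] [Finite G] {z : G} {Q : Subgroup (Subgroup.centralizer ({z} : Set G))} [Q.Normal]

theorem crossPerm_center {g : crossStab} (hg : g.1 ∈ Subgroup.center Co0) : crossPerm g = 1 := by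
  obtain ⟨k, hk, e⟩ := center_le_signSub hg
  rw [show g = k from Subtype.ext e.symm]
  exact hk

theorem exists_perm_hom (hM : IsOfMonsterType z Q) (q : Q)
    (hc : IsConj z ((q : Subgroup.centralizer ({z} : Set G)) : G))
    (hne : ((q : Subgroup.centralizer ({z} : Set G)) : G) ≠ z) :
    ∃ (e : (Subgroup.centralizer ({z} : Set G)) ⧸ Q ≃* Spor.Co1) (ψ : leechLattice → Q ⧸ Subgroup.center Q),
      IsLeechModTwoIso Q e ψ ∧
      ∃ Φ : ↥(Subgroup.centralizer ({z, ((q : Subgroup.centralizer ({z} : Set G)) : G)} : Set G)) →* M24,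
        Function.Surjective Φ ∧ IsPGroup 2 Φ.ker ∧
        ∀ (x : ↥(Subgroup.centralizer ({z, ((q : Subgroup.centralizer ({z} : Set G)) : G)} : Set G)))
          (hx : x.1 ∈ Subgroup.centralizer ({z} : Set G)),
          ∃ g : crossStab, e (QuotientGroup.mk ⟨x.1, hx⟩) = QuotientGroup.mk g.1 ∧ Φ x = crossPerm g := by
  haveI : Fact (Nat.Prime 2) := ⟨Nat.prime_two⟩
  obtain ⟨e, ψ, hψ, htop⟩ := exists_adapted hM q hc hne
  refine ⟨e, ψ, hψ, ?_⟩
  obtain ⟨hzQ, hz, hZ, hcard⟩ := setting_facts hM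
  obtain ⟨gz, hgz⟩ := isConj_iff.1 hc
  obtain ⟨κ, hκ, hX, -, -⟩ := cross_structure e ψ hψ hzQ hz hZ hcard (gz := gz) q hgz.symm (hgz ▸ hne) htop
  rw [hgz] at hX
  set s := ((q : Subgroup.centralizer ({z} : Set G)) : G) with hs
  set L := Subgroup.centralizer ({z, s} : Set G) with hL
  have hLC : L ≤ Subgroup.centralizer ({z} : Set G) := Subgroup.centralizer_le (by simp)
  set Ψ : L →* Spor.Co1 := e.toMonoidHom.comp ((QuotientGroup.mk' Q).comp (Subgroup.inclusion hLC)) with hΨ
  set X := crossStab.map (QuotientGroup.mk' (Subgroup.center Co0)) with hXdef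
  have hrange : Ψ.range = X := by
    have hr : (Subgroup.inclusion hLC).range = (Subgroup.centralizer ({s} : Set G)).subgroupOf (Subgroup.centralizer ({z} : Set G)) := by
      rw [Subgroup.inclusion_range]
      ext x
      simp only [Subgroup.mem_subgroupOf, hL, Subgroup.mem_centralizer_iff, Set.mem_insert_iff,
        Set.mem_singleton_iff, forall_eq_or_imp, forall_eq]
      exact ⟨fun h => h.2, fun h => ⟨Subgroup.mem_centralizer_iff.1 x.2 z rfl, h⟩⟩
    have hle : Ψ.range ≤ X := by
      rintro _ ⟨x, rfl⟩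
      obtain ⟨g, hg⟩ := QuotientGroup.mk_surjective (e (QuotientGroup.mk (Subgroup.inclusion hLC x)))
      refine ⟨g, mem_crossStab_iff_cls.2 ?_, hg.trans rfl⟩
      have h1 := hψ.2.2.2 (Subgroup.inclusion hLC x) g hg top q htop
      have hxs : ((x : G)) * s * (x : G)⁻¹ = s := by
        rw [← Subgroup.mem_centralizer_iff.1 x.2 s (by simp), mul_inv_cancel_right]
      rw [show (⟨Subgroup.inclusion hLC x * q * (Subgroup.inclusion hLC x)⁻¹,
          (inferInstance : Q.Normal).conj_mem (q : Subgroup.centralizer ({z} : Set G)) q.2 _⟩ : Q) = q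
        from Subtype.ext (Subtype.ext hxs), ← htop] at h1
      obtain ⟨hadd, -, hker, -⟩ := hψ
      have h2 : g • top - top ∈ twoLeech := by
        rw [mem_twoLeech, ← hker]
        have h3 := hadd (g • top - top) top
        rw [sub_add_cancel, h1] at h3
        exact right_eq_mul.1 h3
      rwa [← QuotientAddGroup.eq_zero_iff, QuotientAddGroup.mk_sub, sub_eq_zero] at h2
    haveI := finite_Co0
    haveI : Finite X := Finite.of_surjective _ ((QuotientGroup.mk' (Subgroup.center Co0)).subgroupMap_surjective crossStab)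
    refine Subgroup.eq_of_le_of_card_ge hle ?_
    rw [hΨ, MonoidHom.range_comp, Subgroup.card_map_of_injective (f := e.toMonoidHom) e.injective, MonoidHom.range_comp, hr, hX,
      (card_cross_image κ hκ).1, hXdef, (card_cross_image _ (QuotientGroup.ker_mk' _)).1]
  let κ' : crossStab →* X := (QuotientGroup.mk' (Subgroup.center Co0)).subgroupMap crossStab
  have hκ' : Function.Surjective κ' := MonoidHom.subgroupMap_surjective _ _
  have hker : κ'.ker ≤ crossPerm.ker := by
    intro g hg
    refine MonoidHom.mem_ker.2 (crossPerm_center ?_)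
    exact (QuotientGroup.eq_one_iff g.1).1 (congrArg Subtype.val (MonoidHom.mem_ker.1 hg))
  let ℓ : X →* M24 := MonoidHom.liftOfSurjective κ' hκ' ⟨crossPerm, hker⟩
  have hℓ : ∀ g, ℓ (κ' g) = crossPerm g := fun g =>
    MonoidHom.liftOfRightInverse_comp_apply κ' _ (Function.rightInverse_surjInv hκ') ⟨crossPerm, hker⟩ g
  let ΨX : L →* X := Ψ.codRestrict X fun x => hrange ▸ ⟨x, rfl⟩
  refine ⟨ℓ.comp ΨX, ?_, ?_, fun x hx => ?_⟩
  · intro σ
    obtain ⟨g, rfl⟩ := crossPerm_surjective σ
    obtain ⟨x, hx⟩ := (hrange.ge (κ' g).2)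
    exact ⟨x, by rw [MonoidHom.comp_apply, show ΨX x = κ' g from Subtype.ext hx, hℓ]⟩
  · intro x
    obtain ⟨g, hg⟩ := hκ' (ΨX x.1)
    have h1 : crossPerm g = 1 := by
      rw [← hℓ, hg]; exact x.2
    obtain ⟨n, hn⟩ : ∃ n, g ^ (2 ^ n) = 1 := by
      refine ⟨12, ?_⟩
      have h := pow_card_eq_one' (x := (⟨g, h1⟩ : crossPerm.ker))
      have hc4 : Nat.card crossPerm.ker = 4096 := by
        rw [← card_signSub, signSub, Subgroup.card_map_of_injective crossStab.subtype_injective]
      rw [hc4] at h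
      simpa using congrArg Subtype.val h
    have h2 : Subgroup.inclusion hLC (x.1 ^ (2 ^ n)) ∈ Q := by
      have : Ψ (x.1 ^ (2 ^ n)) = 1 := by
        rw [map_pow]
        have := congrArg Subtype.val (show (ΨX x.1) ^ (2 ^ n) = 1 by rw [← hg, ← map_pow, hn, map_one])
        simpa [ΨX] using this
      rwa [hΨ, MonoidHom.comp_apply, MonoidHom.comp_apply, MulEquiv.coe_toMonoidHom, MulEquiv.map_eq_one_iff,
        QuotientGroup.mk'_apply, QuotientGroup.eq_one_iff] at this
    refine ⟨n + 25, Subtype.ext (Subgroup.inclusion_injective hLC ?_)⟩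
    have h3 := congrArg Subtype.val (pow_card_eq_one' (x := (⟨_, h2⟩ : Q)))
    rw [hcard, SubmonoidClass.coe_pow, OneMemClass.coe_one, ← map_pow, ← pow_mul, ← pow_add] at h3
    rw [SubmonoidClass.coe_pow, OneMemClass.coe_one, map_one]
    exact h3
  · obtain ⟨g, hg⟩ := hκ' (ΨX x)
    exact ⟨g, ((congrArg Subtype.val hg).symm :), by rw [MonoidHom.comp_apply, ← hg, hℓ]⟩

end Cfsg.Lib.MonsterThree
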