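import Cfsg.Agent.Lib.MonsterThree.Defs

/-!
Numeric facts about the fixed classes, the spaces and the two centralizing maps.
-/

set_option autoImplicit false
set_option maxRecDepth 100000
set_option maxHeartbeats 4000000
set_option Elab.async false

namespace Cfsg.Lib.MonsterThree

open Cfsg Cfsg.Lib.Concrete
open Cfsg.Lib.MonsterSeven (eqMod2 gensList)

/-- A short vector is right. -/
def classB (c : ℕ) : Bool :=
  eqMod2 (combV c) (repV c) && inLeech (repV c) && decide (sqNorm (repV c) = repN.getD c 0) &&
    [(32 : ℤ), 48, 64].contains (repN.getD c 0) && ((repN.getD c 0 == 64) == sixtyFour.contains c)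

theorem class_check : (List.range 256).all (fun c => c == 0 || classB c) = true := by
  decide +kernel

theorem sixtyFour_check : sixtyFour.length = 135 ∧ sixtyFour.all (fun c => decide (c < 256) && decide (0 < c)) = true := by
  decide +kernel

theorem basFix_check : ∀ i : Fin 8, eqMod2 (fun p => basV i (sigma.symm p)) (basV i) = true := by
  decide +kernel

theorem trace_check : (List.range 37).all (fun j =>
    decide (traceCodes.getD j 0 < 256) &&
      eqMod2 (traceV (gensList.getD j Concrete.oddBase)) (combV (traceCodes.getD j 0))) = true ∧
    gensList.length = 37 := by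
  decide +kernel

theorem gen_ok0 : matOk (genMat 0) = true := by decide +kernel

theorem gen_ok1 : matOk (genMat 1) = true := by decide +kernel

theorem gen_comm : ∀ k : Fin 2, ∀ i j : Fin 24,
    matEntry (genMat k) (gidx (sigma (gpt i))) (gidx (sigma (gpt j))) = matEntry (genMat k) i j := by
  decide +kernel

theorem gen_image : ∀ k : Fin 2, ∀ i : Fin 8,
    (genImgs.getD k []).getD i 0 < 256 ∧
    eqMod2 (matFun (genMat k) (combV (2 ^ (i : ℕ)))) (combV ((genImgs.getD k []).getD i 0)) = true := by
  decide +kernel

theorem gen_spread : ∀ k : Fin 2, ∀ i : Fin 9,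
    (spr i).all (fun c => (spr ((genNine.getD k []).getD i 0)).contains (linCode k c)) = true := by
  decide +kernel

theorem spread_check : (∀ i : Fin 9, (spr i).length = 15 ∧
      (spr i).all (fun c => decide (c < 256) && decide (0 < c)) = true) ∧
    ∀ i j : Fin 9, i ≠ j → (spr i).all (fun c => !(spr j).contains c) = true := by
  decide +kernel

theorem fixCodes_check : fixCodes.length = 16 ∧ codeList.all (fun m =>
    !(bits24.all fun i => m.testBit (pget (sPow 1) i) == m.testBit i) || fixCodes.contains m) = true := by
  decide +kernel

theorem pow_check : sigPows.length = 3 ∧ sPow 0 = pId ∧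
    ((List.range 2).all fun k => prodCheck (sPow 1) (sPow k) (sPow (k + 1))) = true ∧
    prodCheck (sPow 1) (sPow 2) pId = true := by
  decide +kernel

end Cfsg.Lib.MonsterThree
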