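import Cfsg.Agent.Lib.MonsterSeven.Defs
import Cfsg.Agent.Lib.MonsterThree.Data

/-!
The permutation of order three, eight spanning vectors of its fixed classes, and the tests used on them.
-/

set_option autoImplicit false

namespace Cfsg.Lib.MonsterThree

open Cfsg Cfsg.Lib.Concrete Cfsg.Lib.MonsterLocal
open Cfsg.Lib.MonsterSeven (listFun vecP eqMod2)

/-- The permutation of order three. -/
def sigma : Equiv.Perm GolayPt where
  toFun := listFun sigL
  invFun := listFun sigInvL
  left_inv := by decide +kernel
  right_inv := by decide +kernel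

/-- The packed powers. -/
def sPow (k : ℕ) : ℕ := sigPows.getD k 0

theorem rep_sigma : Concrete.Rep sigma (sPow 1) := by unfold Concrete.Rep; decide +kernel

theorem sigma_mem : sigma ∈ M24 := rep_mem_M24 rep_sigma (by decide +kernel)

/-- The automorphism of order three. -/
noncomputable def f0 : Co0 := permHom ⟨sigma, sigma_mem⟩

/-- The spanning vectors. -/
def basV (i : Fin 8) : GolayPt → ℤ := vecP (basL.getD i.val 0)

theorem basV_mem : ∀ i : Fin 8, inLeech (basV i) = true := by decide +kernel

/-- The spanning vectors, in the lattice. -/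
def bas (i : Fin 8) : leechLattice := ⟨basV i, mem_leech_of_inLeech (basV_mem i)⟩

/-- The sum selected by the bits of `c`. -/
def combV (c : ℕ) (p : GolayPt) : ℤ :=
  (bif c.testBit 0 then basV 0 p else 0)
  + (bif c.testBit 1 then basV 1 p else 0) + (bif c.testBit 2 then basV 2 p else 0)
  + (bif c.testBit 3 then basV 3 p else 0) + (bif c.testBit 4 then basV 4 p else 0)
  + (bif c.testBit 5 then basV 5 p else 0) + (bif c.testBit 6 then basV 6 p else 0)
  + (bif c.testBit 7 then basV 7 p else 0)

/-- A short vector in a class. -/
def repV (c : ℕ) : GolayPt → ℤ := vecP (repL.getD c 0)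

/-- The trace of a vector. -/
def traceV (x : GolayPt → ℤ) (p : GolayPt) : ℤ :=
  ((List.range 3).map fun k => x (gpt (Fin.ofNat 24 (pget (sPow k) (gidx p).val)))).sum

/-- A centralizing map. -/
def genMat (k : ℕ) : List (List ℤ) := genMats.getD k []

/-- The xor-linear extension of the listed images. -/
def linCode (k c : ℕ) : ℕ :=
  (List.range 8).foldr (fun i a => bif c.testBit i then Nat.xor ((genImgs.getD k []).getD i 0) a else a) 0

/-- The member of the spread. -/
def spr (i : ℕ) : List ℕ := spreadL.getD i []

end Cfsg.Lib.MonsterThree
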