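import Cfsg.Agent.Lib.MonsterSeven.Fixed
import Cfsg.Agent.Lib.MonsterThree.Checks

/-!
The fixed classes of the automorphism of order three: a space of dimension eight with 135 classes of norm 64.
-/

set_option autoImplicit false
set_option maxRecDepth 100000

namespace Cfsg.Lib.MonsterThree

open Cfsg Cfsg.Lib.Concrete Cfsg.Lib.MonsterLocal
open Cfsg.Lib.MonsterSeven (eqMod2 cls_eq_of_eqMod2 gpt_val rep_apply' permHom_smul bits code sqNorm_double gensList
  mem_gensList gens_mem)

theorem rep_pow : ∀ k : ℕ, k < 3 → Concrete.Rep (sigma ^ k) (sPow k)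
  | 0, _ => by rw [pow_zero, pow_check.2.1]; exact rep_one
  | k + 1, h => by
    rw [pow_succ']
    exact rep_sigma.mul (rep_pow k (by omega))
      (List.all_eq_true.1 pow_check.2.2.1 k (List.mem_range.2 (by omega)))

theorem sigma_pow_three : sigma ^ 3 = 1 := by
  rw [pow_succ']
  exact (rep_sigma.mul (rep_pow 2 (by norm_num)) pow_check.2.2.2).ext rep_one

theorem permHom_smul (s : M24) (v : leechLattice) (p : GolayPt) :
    ((permHom s • v : leechLattice) : GolayPt → ℤ) p = (v : GolayPt → ℤ) (s.1.symm p) := by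
  show ((monoCo0 s.1 s.2 ∅ empty_mem_codeSets • v : leechLattice) : GolayPt → ℤ) p = _
  rw [monoCo0_smul]
  simp [signedPerm]

theorem f0_pow (k : ℕ) : f0 ^ k = permHom (⟨sigma, sigma_mem⟩ ^ k) := (map_pow permHom _ k).symm

theorem f0_pow_three : f0 ^ 3 = 1 := by
  rw [f0_pow, show (⟨sigma, sigma_mem⟩ : M24) ^ 3 = 1 from Subtype.ext sigma_pow_three, map_one]

theorem f0_pow_smul (k : ℕ) (v : leechLattice) (p : GolayPt) :
    ((f0 ^ k • v : leechLattice) : GolayPt → ℤ) p = (v : GolayPt → ℤ) ((sigma ^ k).symm p) := by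
  rw [f0_pow, permHom_smul, SubmonoidClass.coe_pow]

theorem f0_pow_inv_smul (k : ℕ) (hk : k < 3) (v : leechLattice) (p : GolayPt) :
    (((f0 ^ k)⁻¹ • v : leechLattice) : GolayPt → ℤ) p =
      (v : GolayPt → ℤ) (gpt (Fin.ofNat 24 (pget (sPow k) (gidx p).val))) := by
  rw [f0_pow, ← map_inv, permHom_smul]
  exact congrArg _ (rep_apply' (rep_pow k hk) p)

theorem f0_mem_crossStab : f0 ∈ crossStab := permHom_mem _

theorem code_bits : ∀ v : Fin 8 → ZMod 2, code v < 256 ∧ bits 8 (code v) = v := by decide +kernel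

theorem bits_code : ∀ c : Fin 256, code (bits 8 c.val) = c.val := by decide +kernel

/-- The selected sum, in the lattice. -/
def combL (c : ℕ) : leechLattice :=
  (bif c.testBit 0 then bas 0 else 0)
  + (bif c.testBit 1 then bas 1 else 0) + (bif c.testBit 2 then bas 2 else 0)
  + (bif c.testBit 3 then bas 3 else 0) + (bif c.testBit 4 then bas 4 else 0)
  + (bif c.testBit 5 then bas 5 else 0) + (bif c.testBit 6 then bas 6 else 0)
  + (bif c.testBit 7 then bas 7 else 0)

theorem combL_coe (c : ℕ) : ((combL c : leechLattice) : GolayPt → ℤ) = combV c := by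
  funext p
  simp only [combL, combV, AddSubgroup.coe_add, Pi.add_apply]
  cases c.testBit 0 <;> cases c.testBit 1 <;> cases c.testBit 2 <;> cases c.testBit 3 <;>
    cases c.testBit 4 <;> cases c.testBit 5 <;> cases c.testBit 6 <;> cases c.testBit 7 <;> rfl

/-- A multiple of a class by a bit. -/
noncomputable def bitHom (i : Fin 8) : (Fin 8 → ZMod 2) →+ V :=
  AddMonoidHom.mk' (fun v => (v i).val • cls (bas i)) fun a b => by
    simp only [Pi.add_apply]
    generalize a i = x
    generalize b i = y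
    have h01 : ∀ z : ZMod 2, z = 0 ∨ z = 1 := by decide
    have h11 : ((1 : ZMod 2) + 1).val = 0 := by decide
    rcases h01 x with rfl | rfl <;> rcases h01 y with rfl | rfl <;> simp [h11, ZMod.val_one, add_self]

/-- The classes spanned by the six vectors. -/
noncomputable def phi : (Fin 8 → ZMod 2) →+ V := ∑ i, bitHom i

theorem phi_bits (c : ℕ) : phi (bits 8 c) = cls (combL c) := by
  have h : ∀ (b : Bool) (x : leechLattice),
      (bif b then (1 : ZMod 2) else 0).val • cls x = cls (bif b then x else 0) := by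
    intro b x; cases b <;> simp [ZMod.val_one]
  rw [phi, AddMonoidHom.finsetSum_apply, Fin.sum_univ_eight]
  simp only [bitHom, AddMonoidHom.mk'_apply, bits, h]
  rfl

theorem phi_code (v : Fin 8 → ZMod 2) : phi v = cls (combL (code v)) := by
  conv_lhs => rw [← (code_bits v).2]
  exact phi_bits _

theorem cls_comb_eq {x : leechLattice} {c : ℕ} (h : eqMod2 (x : GolayPt → ℤ) (combV c) = true) :
    cls x = phi (bits 8 c) := by
  rw [phi_bits]
  exact cls_eq_of_eqMod2 (by rw [combL_coe]; exact h)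

/-- A short vector in a nonzero class. -/
theorem rep_spec {c : ℕ} (hc : c < 256) (h0 : c ≠ 0) : ∃ u : leechLattice, cls u = phi (bits 8 c) ∧
    (sqNorm (u : GolayPt → ℤ) = 32 ∨ sqNorm (u : GolayPt → ℤ) = 48 ∨ sqNorm (u : GolayPt → ℤ) = 64) ∧
    (sqNorm (u : GolayPt → ℤ) = 64 ↔ c ∈ sixtyFour) := by
  have h := List.all_eq_true.1 class_check c (List.mem_range.2 hc)
  simp only [classB, Bool.or_eq_true, Bool.and_eq_true, beq_iff_eq, decide_eq_true_eq, List.contains_iff_mem,
    List.mem_cons, List.not_mem_nil, or_false] at h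
  rcases h with h | ⟨⟨⟨⟨h1, h2⟩, h3⟩, h4⟩, h5⟩
  · exact absurd h h0
  refine ⟨⟨repV c, mem_leech_of_inLeech h2⟩, ?_, h3 ▸ h4, ?_⟩
  · rw [phi_bits]
    exact (cls_eq_of_eqMod2 (by rw [combL_coe]; exact h1)).symm
  · show sqNorm (repV c) = 64 ↔ _
    rw [h3, ← List.contains_iff_mem, ← h5]
    simp

theorem phi_injective : Function.Injective phi := by
  rw [injective_iff_map_eq_zero]
  intro v hv
  by_contra hne
  have h0 : code v ≠ 0 := fun h => hne (by rw [← (code_bits v).2, h]; funext i; simp [bits])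
  obtain ⟨u, hu, hn, -⟩ := rep_spec (code_bits v).1 h0
  rw [(code_bits v).2, hv, QuotientAddGroup.eq_zero_iff, mem_twoLeech] at hu
  obtain ⟨w, rfl⟩ := hu
  rw [sqNorm_double] at hn
  by_cases hw : (w : GolayPt → ℤ) = 0
  · rw [hw] at hn; simp [sqNorm] at hn
  · have := sqNorm_ge (mem_leechLattice_iff.1 w.2) hw
    omega

theorem bas_fix (i : Fin 8) : cls (f0 • bas i) = cls (bas i) := by
  refine cls_eq_of_eqMod2 ?_
  rw [show ((f0 • bas i : leechLattice) : GolayPt → ℤ) = fun p => basV i (sigma.symm p) from funext fun p => by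
    have := f0_pow_smul 1 (bas i) p
    rw [pow_one, pow_one] at this
    exact this]
  exact basFix_check i

theorem phi_fixed (v : Fin 8 → ZMod 2) : phi v ∈ fixSet f0 := by
  show qact f0 (phi v) = phi v
  simp only [phi, AddMonoidHom.finsetSum_apply, bitHom, AddMonoidHom.mk'_apply, map_sum, map_nsmul, qact_cls, bas_fix]

/-- The trace. -/
noncomputable def trHom : leechLattice →+ leechLattice :=
  ∑ k ∈ Finset.range 3, co0Hom (f0 ^ k)⁻¹

theorem trHom_coe (x : leechLattice) : ((trHom x : leechLattice) : GolayPt → ℤ) = traceV x := by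
  funext p
  simp only [trHom, AddMonoidHom.finsetSum_apply, AddSubgroup.val_finsetSum, Finset.sum_apply, traceV]
  rw [Finset.sum_congr rfl fun k hk => show ((co0Hom (f0 ^ k)⁻¹ x : leechLattice) : GolayPt → ℤ) p = _ from
    f0_pow_inv_smul k (Finset.mem_range.1 hk) x p]
  rfl

theorem trace_mem_span (x : leechLattice) : cls (trHom x) ∈ phi.range := by
  have key : ∀ a ∈ AddSubgroup.closure leechGens, ∃ ha : a ∈ leechLattice,
      cls (trHom ⟨a, ha⟩) ∈ phi.range := by
    intro a ha
    induction ha using AddSubgroup.closure_induction with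
    | mem y hy =>
      refine ⟨gens_mem hy, ?_⟩
      obtain ⟨j, hj, e⟩ := List.mem_iff_getElem.1 (mem_gensList hy)
      have h := List.all_eq_true.1 trace_check.1 j (List.mem_range.2 (trace_check.2 ▸ hj))
      simp only [Bool.and_eq_true, decide_eq_true_eq] at h
      rw [List.getD_eq_getElem _ _ hj, e] at h
      refine ⟨bits 8 (traceCodes.getD j 0), (cls_comb_eq ?_).symm⟩
      rw [trHom_coe]
      exact h.2
    | zero => exact ⟨zero_mem _, by rw [show (⟨0, zero_mem _⟩ : leechLattice) = 0 from rfl, map_zero]; exact zero_mem _⟩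
    | add a b _ _ ha hb =>
      obtain ⟨ha, ha'⟩ := ha
      obtain ⟨hb, hb'⟩ := hb
      refine ⟨add_mem ha hb, ?_⟩
      rw [show (⟨a + b, add_mem ha hb⟩ : leechLattice) = ⟨a, ha⟩ + ⟨b, hb⟩ from rfl, map_add]
      exact add_mem ha' hb'
    | neg a _ ha =>
      obtain ⟨ha, ha'⟩ := ha
      refine ⟨neg_mem ha, ?_⟩
      rw [show (⟨-a, neg_mem ha⟩ : leechLattice) = -⟨a, ha⟩ from rfl, map_neg]
      exact neg_mem ha'
  obtain ⟨_, h⟩ := key _ (leech_le_gens x.2)
  exact h

theorem fixSet_eq : fixSet f0 = Set.range phi := by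
  refine Set.Subset.antisymm (fun q hq => ?_) ?_
  · obtain ⟨x, rfl⟩ := QuotientAddGroup.mk_surjective q
    have h1 : ∀ k, qact (f0 ^ k)⁻¹ (cls x) = cls x := fun k => by
      have h := qact_inv_self (f0 ^ k) (cls x)
      rwa [qact_pow_fix hq k] at h
    have h2 : cls (trHom x) = (3 : ℕ) • cls x := by
      simp only [trHom, AddMonoidHom.finsetSum_apply]
      show QuotientAddGroup.mk' twoLeech _ = _
      rw [map_sum,
        Finset.sum_congr rfl fun k _ => show QuotientAddGroup.mk' twoLeech (co0Hom (f0 ^ k)⁻¹ x) = cls x from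
          (qact_cls _ x).symm.trans (h1 k),
        Finset.sum_const, Finset.card_range]
    rw [odd_nsmul (by decide)] at h2
    obtain ⟨v, hv⟩ := trace_mem_span x
    exact ⟨v, hv.trans h2⟩
  · rintro _ ⟨v, rfl⟩
    exact phi_fixed v

theorem phi_mem_sixty (v : Fin 8 → ZMod 2) : phi v ∈ sixtySet ↔ code v ∈ sixtyFour := by
  by_cases h0 : code v = 0
  · have hv : v = 0 := by rw [← (code_bits v).2, h0]; funext i; simp [bits]
    constructor
    · rintro ⟨y, hy, e⟩
      rw [hv, map_zero, QuotientAddGroup.eq_zero_iff, mem_twoLeech] at e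
      obtain ⟨w, rfl⟩ := e
      rw [sqNorm_double] at hy
      by_cases hw : (w : GolayPt → ℤ) = 0
      · rw [hw] at hy; simp [sqNorm] at hy
      · have := sqNorm_ge (mem_leechLattice_iff.1 w.2) hw
        omega
    · intro h
      have := List.all_eq_true.1 sixtyFour_check.2 _ h
      simp [h0] at this
  · obtain ⟨u, hu, hn, h64⟩ := rep_spec (code_bits v).1 h0
    rw [(code_bits v).2] at hu
    constructor
    · rintro ⟨y, hy, e⟩
      rcases close_pair u.2 y.2 (by omega) (by omega) (mk_eq_iff.1 (hu.trans e.symm)) with h | h | ⟨h, -, -⟩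
      · exact h64.1 (by rw [← h, hy])
      · exact h64.1 (by rw [← sqNorm_neg' (u : GolayPt → ℤ), ← h, hy])
      · exact h64.1 h
    · intro h
      exact ⟨u, h64.2 h, hu⟩

theorem ncard_fixSet : (fixSet f0).ncard = 256 := by
  rw [fixSet_eq, Set.ncard_range_of_injective phi_injective, Nat.card_fun]
  simp

theorem ncard_fix_sixty_le : (fixSet f0 ∩ sixtySet).ncard ≤ 135 := by
  have h : fixSet f0 ∩ sixtySet ⊆ (fun c => phi (bits 8 c)) '' (sixtyFour.toFinset : Set ℕ) := by
    rw [fixSet_eq]
    rintro q ⟨⟨v, rfl⟩, hq⟩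
    exact ⟨code v, List.mem_toFinset.2 ((phi_mem_sixty v).1 hq), by simp only [(code_bits v).2]⟩
  refine (Set.ncard_le_ncard h ((Finset.finite_toSet _).image _)).trans
    ((Set.ncard_image_le (Finset.finite_toSet _)).trans ?_)
  rw [Set.ncard_coe_finset]
  exact (List.toFinset_card_le _).trans sixtyFour_check.1.le

end Cfsg.Lib.MonsterThree
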