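import Cfsg.Agent.Lib.MonsterThree.Rho
import Cfsg.Agent.Lib.MonsterThree.Classes
import Cfsg.Agent.Lib.MonsterThree.Lift

/-!
A group of order three in the common centralizer of two commuting central involutions that is not central in any
Sylow subgroup corresponds to the given automorphism.
-/

set_option autoImplicit false
set_option Elab.async false

namespace Cfsg.Lib.MonsterThree

open Cfsg Cfsg.Lib.Concrete Cfsg.Lib.MonsterLocal

theorem crossPerm_f0 : crossPerm ⟨f0, f0_mem_crossStab⟩ = sigM := crossPerm_permHom ⟨sigma, sigma_mem⟩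

/-- An element of order three of the cross stabiliser over the permutation is conjugate to the automorphism. -/
theorem conj_f0 {g : crossStab} (h3 : g ^ 3 = 1) (hg : crossPerm g = sigM) :
    ∃ w : crossStab, w * g * w⁻¹ = ⟨f0, f0_mem_crossStab⟩ := by
  haveI : Fact (Nat.Prime 3) := ⟨Nat.prime_three⟩
  set fE : crossStab := ⟨f0, f0_mem_crossStab⟩ with hfE
  have hf3 : fE ^ 3 = 1 := Subtype.ext f0_pow_three
  have hs1 : sigM ≠ 1 := by
    intro h
    have : sigma (gpt 0) ≠ gpt 0 := by decide +kernel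
    exact this (by rw [show sigma = 1 from congrArg Subtype.val h]; rfl)
  have hord : ∀ x : crossStab, x ^ 3 = 1 → crossPerm x = sigM → orderOf x = 3 := fun x h3' hx =>
    orderOf_eq_prime h3' fun h => hs1 (by rw [← hx, h, map_one])
  set H := (Subgroup.zpowers sigM).comap crossPerm with hH
  have hgH : g ∈ H := by rw [hH, Subgroup.mem_comap, hg]; exact Subgroup.mem_zpowers _
  have hfH : fE ∈ H := by rw [hH, Subgroup.mem_comap, crossPerm_f0]; exact Subgroup.mem_zpowers _
  haveI : Finite crossStab := Nat.finite_of_card_ne_zero (by rw [card_crossStab]; norm_num)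
  have hsig : orderOf sigM = 3 := orderOf_eq_prime (by rw [← crossPerm_f0, ← map_pow, hf3, map_one]) hs1
  have hk : Nat.card crossPerm.ker = 4096 := by
    rw [← card_signSub, signSub, Subgroup.card_map_of_injective crossStab.subtype_injective]
  have hcardH : (Nat.card H).factorization 3 = 1 := by
    have h := Subgroup.card_mul_index (crossPerm.comp H.subtype).ker
    rw [Subgroup.index_ker, MonoidHom.range_comp, Subgroup.range_subtype,
      Subgroup.map_comap_eq_self_of_surjective crossPerm_surjective, Nat.card_zpowers, hsig,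
      show (crossPerm.comp H.subtype).ker = crossPerm.ker.subgroupOf H from rfl,
      Nat.card_congr (Subgroup.subgroupOfEquivOfLe (show crossPerm.ker ≤ H from fun x hx => by
        rw [hH, Subgroup.mem_comap, MonoidHom.mem_ker.1 hx]; exact one_mem _)).toEquiv, hk] at h
    rw [← h, Nat.factorization_mul (by norm_num) (by norm_num), Finsupp.add_apply,
      Nat.Prime.factorization_self Nat.prime_three, Nat.factorization_eq_zero_of_not_dvd (by norm_num)]
  have hcard : ∀ (x : crossStab) (hx : x ∈ H), orderOf x = 3 →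
      Nat.card (Subgroup.zpowers (⟨x, hx⟩ : H)) = 3 ^ (Nat.card H).factorization 3 := fun x hx ho => by
    rw [Nat.card_zpowers, Subgroup.orderOf_mk, ho, hcardH, pow_one]
  obtain ⟨w, hw⟩ := MulAction.exists_smul_eq H (Sylow.ofCard _ (hcard g hgH (hord g h3 hg)))
    (Sylow.ofCard _ (hcard fE hfH (hord fE hf3 crossPerm_f0)))
  refine ⟨w.1, ?_⟩
  have hmem : w * ⟨g, hgH⟩ * w⁻¹ ∈ Subgroup.zpowers (⟨fE, hfH⟩ : H) := by
    have h := congrArg (fun P : Sylow 3 H => (P : Subgroup H)) hw
    simp only [Sylow.coe_subgroup_smul, Sylow.coe_ofCard] at h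
    rw [← h]
    exact ⟨⟨g, hgH⟩, Subgroup.mem_zpowers _, rfl⟩
  obtain ⟨i, hi⟩ := Subgroup.mem_zpowers_iff.1 hmem
  have hi' : fE ^ i = w.1 * g * w.1⁻¹ := by simpa using congrArg Subtype.val hi
  obtain ⟨j, hj⟩ := Subgroup.mem_zpowers_iff.1 (Subgroup.mem_comap.1 w.2)
  have e : sigM ^ i = sigM := by
    have := congrArg crossPerm hi'
    rw [map_zpow, crossPerm_f0, map_mul, map_mul, map_inv, hg, ← hj] at this
    rw [this]
    group
  rw [← hi']
  have h31 : (3 : ℤ) ∣ i - 1 := by
    have h1 : sigM ^ (i - 1) = 1 := by rw [zpow_sub_one, e, mul_inv_cancel]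
    have := orderOf_dvd_iff_zpow_eq_one.2 h1
    rwa [hsig] at this
  obtain ⟨m, hm⟩ := h31
  rw [show i = 1 + ((3 : ℕ) : ℤ) * m by push_cast; omega, zpow_add, zpow_one, zpow_mul, zpow_natCast, hf3, one_zpow,
    mul_one]

/-- The datum of a group of order three that is not central in a Sylow subgroup. -/
theorem exists_datum {G : Type*} [Group G] [Finite G] {z : G}
    {Q : Subgroup (Subgroup.centralizer ({z} : Set G))} [Q.Normal] (hM : IsOfMonsterType z Q) (q : Q)
    (hc : IsConj z ((q : Subgroup.centralizer ({z} : Set G)) : G))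
    (hne : ((q : Subgroup.centralizer ({z} : Set G)) : G) ≠ z) (Y : Subgroup G)
    (hY : Y ≤ Subgroup.centralizer ({z, ((q : Subgroup.centralizer ({z} : Set G)) : G)} : Set G))
    (hY3 : Nat.card Y = 3)
    (hnc : ∀ P : Sylow 3 ↥(Subgroup.centralizer ({z, ((q : Subgroup.centralizer ({z} : Set G)) : G)} : Set G)),
      ¬ Y.subgroupOf (Subgroup.centralizer ({z, ((q : Subgroup.centralizer ({z} : Set G)) : G)} : Set G)) ≤
        (Subgroup.center ↥(P : Subgroup ↥(Subgroup.centralizer
          ({z, ((q : Subgroup.centralizer ({z} : Set G)) : G)} : Set G)))).map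
          (P : Subgroup ↥(Subgroup.centralizer ({z, ((q : Subgroup.centralizer ({z} : Set G)) : G)} : Set G))).subtype) :
    ∃ a : G, Y = Subgroup.zpowers a ∧ Commute a ((q : Subgroup.centralizer ({z} : Set G)) : G) ∧
      Nonempty (Datum z Q f0 3 a) := by
  haveI : Fact (Nat.Prime 3) := ⟨Nat.prime_three⟩
  haveI : Fact (Nat.Prime 2) := ⟨Nat.prime_two⟩
  haveI : Finite M24 := Nat.finite_of_card_ne_zero (by rw [card_M24]; norm_num)
  set s := ((q : Subgroup.centralizer ({z} : Set G)) : G) with hs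
  set L := Subgroup.centralizer ({z, s} : Set G) with hL
  obtain ⟨e, ψ, hψ, Φ, hΦs, hΦk, hrep⟩ := exists_perm_hom hM q hc hne
  have hker1 : ∀ x : L, x ^ 3 = 1 → Φ x = 1 → x = 1 := by
    intro x h3 h1
    obtain ⟨k, hk⟩ := hΦk ⟨x, h1⟩
    have hk' : x ^ (2 ^ k) = 1 := by simpa using congrArg Subtype.val hk
    exact orderOf_eq_one_iff.1 (Nat.eq_one_of_dvd_coprimes (show Nat.Coprime 3 (2 ^ k) from
      (by norm_num : Nat.Coprime 3 2).pow_right k) (orderOf_dvd_of_pow_eq_one h3) (orderOf_dvd_of_pow_eq_one hk'))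
  haveI : Nontrivial Y := Finite.one_lt_card_iff_nontrivial.1 (by rw [hY3]; norm_num)
  obtain ⟨⟨b0, hb0⟩, hb01⟩ := exists_ne (1 : Y)
  set bL : L := ⟨b0, hY hb0⟩ with hbL
  have hb3 : bL ^ 3 = 1 := Subtype.ext (by
    have := congrArg Subtype.val (pow_card_eq_one' (x := (⟨b0, hb0⟩ : Y)))
    rwa [hY3] at this)
  have hbne : bL ≠ 1 := fun h => hb01 (Subtype.ext (congrArg Subtype.val h :))
  have hYz : ∀ b : L, b.1 ∈ Y → b ≠ 1 → Y = Subgroup.zpowers b.1 := by
    intro b hb h1
    refine (Subgroup.eq_of_le_of_card_ge (Subgroup.zpowers_le.2 hb) ?_).symm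
    rw [Nat.card_zpowers, hY3]
    refine le_of_eq (orderOf_eq_prime ?_ fun h => h1 (Subtype.ext h)).symm
    have := congrArg Subtype.val (pow_card_eq_one' (x := (⟨b.1, hb⟩ : Y)))
    rwa [hY3] at this
  have hτ3 : Φ bL ^ 3 = 1 := by rw [← map_pow, hb3, map_one]
  have hτ1 : Φ bL ≠ 1 := fun h => hbne (hker1 _ hb3 h)
  rcases order_three_cases (Φ bL) hτ3 hτ1 with ⟨h, hh⟩ | ⟨T, hT, hτT, hTc⟩
  · -- a generator over the permutation
    obtain ⟨b, hbY, hb3', hb1, hbσ⟩ : ∃ b : L, b.1 ∈ Y ∧ b ^ 3 = 1 ∧ b ≠ 1 ∧ h * Φ b * h⁻¹ = sigM := by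
      rcases hh with hh | hh
      · exact ⟨bL, hb0, hb3, hbne, hh⟩
      · refine ⟨bL ^ 2, Y.pow_mem hb0 2, by rw [← pow_mul, mul_comm, pow_mul, hb3, one_pow], fun h2 => hbne ?_, ?_⟩
        · rw [← hb3, pow_succ, h2, one_mul]
        · have hs3 : sigM ^ 3 = 1 := by
            rw [← crossPerm_f0, ← map_pow, show (⟨f0, f0_mem_crossStab⟩ : crossStab) ^ 3 = 1 from
              Subtype.ext f0_pow_three, map_one]
          rw [map_pow, ← conj_pow, hh, ← pow_mul, show 2 * 2 = 3 + 1 from rfl, pow_succ, hs3, one_mul]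
    have hbzs := Subgroup.mem_centralizer_iff.1 b.2
    have hbC : b.1 ∈ Subgroup.centralizer ({z} : Set G) :=
      Subgroup.mem_centralizer_singleton_iff.2 (hbzs z (by simp)).symm
    have hbs : Commute b.1 s := (hbzs s (by simp)).symm
    obtain ⟨g, hge, hgp⟩ := hrep b hbC
    set bC : Subgroup.centralizer ({z} : Set G) := ⟨b.1, hbC⟩ with hbCdef
    have hbC3 : bC ^ 3 = 1 := Subtype.ext (congrArg Subtype.val hb3' :)
    set t := g ^ 3 with ht
    have htc : t.1 ∈ Subgroup.center Co0 := by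
      rw [← QuotientGroup.eq_one_iff, ht, SubmonoidClass.coe_pow, QuotientGroup.mk_pow, ← hge, ← map_pow,
        ← QuotientGroup.mk_pow, hbC3, QuotientGroup.mk_one, map_one]
    have ht2 : t ^ 2 = 1 := Subtype.ext (by
      have := congrArg Subtype.val (pow_card_eq_one' (x := (⟨t.1, htc⟩ : Subgroup.center Co0)))
      rwa [card_center_Co0] at this)
    have hgt3 : (g * t) ^ 3 = 1 := by
      rw [(show Commute g t from (Commute.refl g).pow_right 3).mul_pow, ← ht, ← pow_succ',
        show 3 + 1 = 2 * 2 from rfl, pow_mul, ht2, one_pow]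
    have hge' : (QuotientGroup.mk (g * t).1 : Spor.Co1) = e (QuotientGroup.mk bC) := by
      rw [Subgroup.coe_mul, QuotientGroup.mk_mul, (QuotientGroup.eq_one_iff t.1).2 htc, mul_one, hge]
    obtain ⟨h', hh'⟩ := crossPerm_surjective h
    have hσ : crossPerm (h' * (g * t) * h'⁻¹) = sigM := by
      rw [map_mul, map_mul, map_mul, map_inv, hh', crossPerm_center htc, mul_one, ← hgp, hbσ]
    obtain ⟨w, hw⟩ := conj_f0 (by
      rw [← MulAut.conj_apply, ← map_pow, hgt3, map_one]) hσ
    have hX : (w * h').1 * (g * t).1 * (w * h').1⁻¹ = f0 := by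
      have hw' := congrArg Subtype.val hw
      simp only [Subgroup.coe_mul, InvMemClass.coe_inv] at hw' ⊢
      rw [← hw']
      group
    refine ⟨b.1, hYz b hbY hb1, hbs, ⟨?_⟩⟩
    exact
      { setting := hM.1
        e := e.trans (MulAut.conj (QuotientGroup.mk (w * h').1 : Spor.Co1))
        ψ := fun v => ψ ((w * h').1⁻¹ • v)
        iso := twist e ψ hψ (w * h').1
        prime := Nat.prime_three
        odd := by decide
        mem := hbC
        order := by rw [Subgroup.orderOf_coe]; exact orderOf_eq_prime hb3' hb1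
        fpow := f0_pow_three
        image := by
          rw [MulEquiv.trans_apply, ← hge', MulAut.conj_apply, ← QuotientGroup.mk_inv, ← QuotientGroup.mk_mul,
            ← QuotientGroup.mk_mul, hX] }
  · exfalso
    have hcardT : Nat.card (T.comap Φ) = Nat.card Φ.ker * 27 := by
      have h := Subgroup.card_mul_index (Φ.comp (T.comap Φ).subtype).ker
      rw [Subgroup.index_ker, MonoidHom.range_comp, Subgroup.range_subtype,
        Subgroup.map_comap_eq_self_of_surjective hΦs, hT,
        show (Φ.comp (T.comap Φ).subtype).ker = Φ.ker.subgroupOf (T.comap Φ) from rfl,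
        Nat.card_congr (Subgroup.subgroupOfEquivOfLe (show Φ.ker ≤ T.comap Φ from fun x hx => by
          rw [Subgroup.mem_comap, MonoidHom.mem_ker.1 hx]; exact one_mem _)).toEquiv] at h
      exact h.symm
    obtain ⟨k, hk⟩ := hΦk.exists_card_eq
    have hf2 : ∀ n : ℕ, n ≠ 0 → (2 ^ k * n).factorization 3 = n.factorization 3 := fun n hn => by
      rw [Nat.factorization_mul (by positivity) hn, Finsupp.add_apply, Nat.Prime.factorization_pow Nat.prime_two,
        Finsupp.single_eq_of_ne (by norm_num), zero_add]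
    have hfH : (Nat.card (T.comap Φ)).factorization 3 = 3 := by
      rw [hcardT, hk, hf2 27 (by norm_num), show (27 : ℕ) = 3 ^ 3 by norm_num,
        Nat.Prime.factorization_pow Nat.prime_three, Finsupp.single_eq_same]
    have hfL : (Nat.card L).factorization 3 = 3 := by
      have h := Subgroup.card_mul_index Φ.ker
      rw [Subgroup.index_ker, MonoidHom.range_eq_top.2 hΦs, Subgroup.card_top, hk] at h
      rw [← h, hf2 _ (by rw [card_M24]; norm_num), factorization_M24]
    have hbH : bL ∈ T.comap Φ := hτT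
    have hp : IsPGroup 3 (Subgroup.zpowers (⟨bL, hbH⟩ : T.comap Φ)) :=
      IsPGroup.of_card (n := 1) (by rw [Nat.card_zpowers, Subgroup.orderOf_mk, orderOf_eq_prime hb3 hbne, pow_one])
    obtain ⟨P0, hP0⟩ := hp.exists_le_sylow
    have hc0 : Nat.card P0 = 27 := by rw [P0.card_eq_multiplicity, hfH]; norm_num
    have hc1 : Nat.card ((P0 : Subgroup (T.comap Φ)).map (T.comap Φ).subtype) = 3 ^ (Nat.card L).factorization 3 := by
      rw [Subgroup.card_map_of_injective (T.comap Φ).subtype_injective, hfL]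
      exact hc0
    refine hnc (Sylow.ofCard _ hc1) ?_
    simp only [Sylow.coe_ofCard]
    intro x hx
    have hbP : bL ∈ (P0 : Subgroup (T.comap Φ)).map (T.comap Φ).subtype :=
      ⟨⟨bL, hbH⟩, hP0 (Subgroup.mem_zpowers _), rfl⟩
    have hxb : x ∈ Subgroup.zpowers bL := by
      have : x.1 ∈ Subgroup.zpowers bL.1 := hYz bL hb0 hbne ▸ Subgroup.mem_subgroupOf.1 hx
      obtain ⟨i, hi⟩ := Subgroup.mem_zpowers_iff.1 this
      exact Subgroup.mem_zpowers_iff.2 ⟨i, Subtype.ext (by rw [SubgroupClass.coe_zpow]; exact hi)⟩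
    set P := (P0 : Subgroup (T.comap Φ)).map (T.comap Φ).subtype with hP
    refine ⟨⟨x, Subgroup.zpowers_le.2 hbP hxb⟩, ?_, rfl⟩
    refine Subgroup.mem_center_iff.2 fun u => Subtype.ext ?_
    have hub : Commute u.1 bL := by
      have hv : (u.1 * bL * u.1⁻¹ * bL⁻¹) ∈ P :=
        mul_mem (mul_mem (mul_mem u.2 hbP) (inv_mem u.2)) (inv_mem hbP)
      have h1 : Φ (u.1 * bL * u.1⁻¹ * bL⁻¹) = 1 := by
        have hu : Φ u.1 ∈ T := by
          obtain ⟨u', -, e⟩ := u.2
          rw [← e]; exact u'.2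
        rw [map_mul, map_mul, map_mul, map_inv, map_inv, hTc _ hu, mul_inv_cancel_right, mul_inv_cancel]
      obtain ⟨n, hn⟩ := hΦk ⟨_, h1⟩
      have hn' : (u.1 * bL * u.1⁻¹ * bL⁻¹) ^ (2 ^ n) = 1 := by simpa using congrArg Subtype.val hn
      have h27 : orderOf (u.1 * bL * u.1⁻¹ * bL⁻¹) ∣ 27 := by
        have := orderOf_dvd_natCard (⟨_, hv⟩ : P)
        rwa [Subgroup.orderOf_mk, hc1, hfL] at this
      have := orderOf_eq_one_iff.1 (Nat.eq_one_of_dvd_coprimes
        (show Nat.Coprime 27 (2 ^ n) from (by norm_num : Nat.Coprime 27 2).pow_right n) h27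
        (orderOf_dvd_of_pow_eq_one hn'))
      exact mul_inv_eq_iff_eq_mul.1 (mul_inv_eq_one.1 this)
    obtain ⟨i, hi⟩ := Subgroup.mem_zpowers_iff.1 hxb
    show u.1 * x = x * u.1
    rw [← hi]
    exact (hub.zpow_right i).eq

end Cfsg.Lib.MonsterThree
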