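import Cfsg.Agent.Lib.Concrete.LeechSimpleGroups
import Cfsg.Agent.Lib.MonsterThree.Count

/-!
The centralizer of the automorphism of order three acts on nine spaces of fixed classes as the alternating group,
with the group of order three and the centre as kernel.
-/

set_option autoImplicit false
set_option maxRecDepth 100000
set_option Elab.async false

namespace Cfsg.Lib.MonsterThree

open Cfsg Cfsg.Lib.Concrete Cfsg.Lib.MonsterLocal
open Cfsg.Lib.MonsterSeven (bits code eqMod2 cls_eq_of_eqMod2 gpt_val)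

/-- The centralizer. -/
noncomputable abbrev cenF : Subgroup Co0 := Subgroup.centralizer ({f0} : Set Co0)

theorem mem_cenF {g : Co0} : g ∈ cenF ↔ Commute g f0 := Subgroup.mem_centralizer_singleton_iff

theorem mul_f0_ext {g a : Co0} (h : ∀ v : leechLattice, g • (f0 • v) = a • (g • v)) : g * f0 = a * g :=
  Subtype.ext (Equiv.ext fun v => h v)

theorem f0_coe (v : leechLattice) :
    ((f0 • v : leechLattice) : GolayPt → ℤ) = fun q => (v : GolayPt → ℤ) (sigma.symm q) :=
  funext fun q => by simpa using f0_pow_smul 1 v q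

theorem f0_mem_cenF : f0 ∈ cenF := mem_cenF.2 rfl

theorem gen_ok (k : Fin 2) : matOk (genMat k) = true := by
  fin_cases k
  exacts [gen_ok0, gen_ok1]

/-- A centralizing map. -/
noncomputable def genE (k : Fin 2) : Co0 := matCo0 (genMat k) (gen_ok k)

theorem matFun_twist (k : Fin 2) (x : GolayPt → ℤ) (p : GolayPt) :
    matFun (genMat k) (fun q => x (sigma.symm q)) p = matFun (genMat k) x (sigma.symm p) := by
  have hs : matDot (genMat k) (fun q => x (sigma.symm q)) (gidx p) = matDot (genMat k) x (gidx (sigma.symm p)) := by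
    have e : ∀ (i : Fin 24) (y : GolayPt → ℤ),
        matDot (genMat k) y i = ∑ q, matEntry (genMat k) i (gidx q) * y q := fun i y => by
      rw [matDot_eq, sum_gpt fun q => matEntry (genMat k) i (gidx q) * y q]
      simp only [gidx_gpt]
    rw [e, e, ← Equiv.sum_comp sigma]
    refine Finset.sum_congr rfl fun q _ => ?_
    have := gen_comm k (gidx (sigma.symm p)) (gidx q)
    rw [gpt_gidx, gpt_gidx, Equiv.apply_symm_apply] at this
    rw [this, Equiv.symm_apply_apply]
  simp only [matFun, hs]

theorem genE_comm (k : Fin 2) : genE k * f0 = f0 * genE k := by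
  refine mul_f0_ext fun v => Subtype.ext ?_
  rw [f0_coe]
  show matFun (genMat k) (f0 • v : leechLattice) = fun q => matFun (genMat k) v (sigma.symm q)
  rw [f0_coe]
  exact funext (matFun_twist k _)

theorem comb_basis : ∀ i : Fin 8, ∀ p : GolayPt, combV (2 ^ (i : ℕ)) p = basV i p := by decide +kernel

theorem genE_bas (k : Fin 2) (i : Fin 8) :
    qact (genE k) (cls (bas i)) = phi (bits 8 ((genImgs.getD k []).getD i 0)) := by
  rw [qact_cls]
  refine cls_comb_eq ?_
  rw [genE, matCo0_apply, show ((bas i : leechLattice) : GolayPt → ℤ) = combV (2 ^ (i : ℕ)) from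
    funext fun p => (comb_basis i p).symm]
  exact (gen_image k i).2

theorem lin_check : ∀ k : Fin 2, ∀ c : Fin 256,
    (∑ i : Fin 8, (bits 8 c.val i).val • bits 8 ((genImgs.getD k []).getD i 0)) = bits 8 (linCode k c) ∧
      linCode k c < 256 := by
  decide +kernel

theorem genE_phi (k : Fin 2) {c : ℕ} (hc : c < 256) : qact (genE k) (phi (bits 8 c)) = phi (bits 8 (linCode k c)) := by
  rw [← (lin_check k ⟨c, hc⟩).1, map_sum]
  conv_lhs => rw [phi, AddMonoidHom.finsetSum_apply, map_sum]
  refine Finset.sum_congr rfl fun i _ => ?_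
  simp only [bitHom, AddMonoidHom.mk'_apply, map_nsmul, genE_bas]

theorem spr_nodup : ∀ i : Fin 9, (spr i).Nodup := by decide +kernel

theorem spr_lt {i : Fin 9} {c : ℕ} (h : c ∈ spr i) : c < 256 := by
  have := List.all_eq_true.1 (spread_check.1 i).2 c h
  simp only [Bool.and_eq_true, decide_eq_true_eq] at this
  exact this.1

/-- A space of the spread, without zero. -/
noncomputable def sprSet (i : Fin 9) : Set V := (fun c => phi (bits 8 c)) '' ((spr i).toFinset : Set ℕ)

theorem mem_sprSet {i : Fin 9} {c : ℕ} (h : c ∈ spr i) : phi (bits 8 c) ∈ sprSet i :=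
  ⟨c, List.mem_toFinset.2 h, rfl⟩

theorem phi_bits_inj {a b : ℕ} (ha : a < 256) (hb : b < 256) (h : phi (bits 8 a) = phi (bits 8 b)) : a = b := by
  have := congrArg code (phi_injective h)
  rwa [bits_code ⟨a, ha⟩, bits_code ⟨b, hb⟩] at this

theorem ncard_sprSet (i : Fin 9) : (sprSet i).ncard = 15 := by
  rw [sprSet, Set.InjOn.ncard_image, Set.ncard_coe_finset, List.toFinset_card_of_nodup (spr_nodup i),
    (spread_check.1 i).1]
  intro a ha b hb h
  exact phi_bits_inj (spr_lt (List.mem_toFinset.1 ha)) (spr_lt (List.mem_toFinset.1 hb)) h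

theorem sprSet_finite (i : Fin 9) : (sprSet i).Finite := (Finset.finite_toSet _).image _

theorem sprSet_fix {i : Fin 9} {q : V} (h : q ∈ sprSet i) : q ∈ fixSet f0 := by
  obtain ⟨c, -, rfl⟩ := h
  exact phi_fixed _

theorem sprSet_injective : Function.Injective sprSet := by
  intro i j h
  by_contra hne
  obtain ⟨c, hc⟩ : ∃ c, c ∈ spr i :=
    List.exists_mem_of_length_pos (by rw [(spread_check.1 i).1]; norm_num)
  obtain ⟨d, hd, e⟩ := h ▸ mem_sprSet hc
  have hd' := List.mem_toFinset.1 hd
  have t := List.all_eq_true.1 (spread_check.2 i j hne) c hc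
  rw [← phi_bits_inj (spr_lt hd') (spr_lt hc) e] at t
  simp [List.contains_iff_mem, hd'] at t

/-- The permutation of the spaces induced by a centralizing map. -/
def nineP (k : Fin 2) : Equiv.Perm (Fin 9) where
  toFun i := Fin.ofNat 9 ((genNine.getD k []).getD i 0)
  invFun i := Fin.ofNat 9 ((genNine.getD k []).idxOf (i : ℕ))
  left_inv := by revert k; unfold Function.LeftInverse; decide +kernel
  right_inv := by revert k; unfold Function.RightInverse Function.LeftInverse; decide +kernel

theorem nine_val : ∀ k : Fin 2, ∀ i : Fin 9, ((nineP k i : Fin 9) : ℕ) = (genNine.getD k []).getD i 0 := by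
  decide +kernel

theorem genE_image (k : Fin 2) (i : Fin 9) : qact (genE k) '' sprSet i = sprSet (nineP k i) := by
  refine Set.eq_of_subset_of_ncard_le ?_ ?_ (sprSet_finite _)
  · rintro _ ⟨_, ⟨c, hc, rfl⟩, rfl⟩
    have hc' := List.mem_toFinset.1 hc
    have t := List.all_eq_true.1 (gen_spread k i) c hc'
    rw [← nine_val k i, List.contains_iff_mem] at t
    show qact (genE k) (phi (bits 8 c)) ∈ _
    rw [genE_phi k (spr_lt hc')]
    exact mem_sprSet t
  · rw [Set.ncard_image_of_injective _ (qact_injective _), ncard_sprSet, ncard_sprSet]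

/-- The centralizing maps permuting the spaces. -/
noncomputable def spreadStab : Subgroup Co0 where
  carrier := {g | Commute g f0 ∧ ∃ π : Equiv.Perm (Fin 9), ∀ i, qact g '' sprSet i = sprSet (π i)}
  one_mem' := ⟨Commute.one_left _, 1, fun i => by
    rw [show (qact (1 : Co0) : V → V) = id from funext qact_one, Set.image_id]; rfl⟩
  mul_mem' := fun {g h} ⟨hg, π, hπ⟩ ⟨hh, π', hπ'⟩ => ⟨hg.mul_left hh, π * π', fun i => by
    rw [show (qact (g * h) : V → V) = qact g ∘ qact h from funext (qact_mul g h), Set.image_comp, hπ', hπ]; rfl⟩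
  inv_mem' := fun {g} ⟨hg, π, hπ⟩ => ⟨hg.inv_left, π⁻¹, fun i => by
    have h := hπ (π⁻¹ i)
    rw [show π (π⁻¹ i) = i from π.apply_symm_apply i] at h
    rw [← h, ← Set.image_comp, show (qact g⁻¹ : V → V) ∘ qact g = id from funext (qact_inv_self g), Set.image_id]⟩

/-- The induced permutation of the spaces. -/
noncomputable def rho0 : spreadStab →* Equiv.Perm (Fin 9) :=
  MonoidHom.mk' (fun g => g.2.2.choose) fun g h => Equiv.ext fun i => sprSet_injective (by
    rw [← (g * h).2.2.choose_spec i, Equiv.Perm.mul_apply, ← g.2.2.choose_spec, ← h.2.2.choose_spec,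
      ← Set.image_comp, Subgroup.coe_mul,
      show (qact (g.1 * h.1) : V → V) = qact g.1 ∘ qact h.1 from funext (qact_mul g.1 h.1)])

theorem rho0_spec (g : spreadStab) (i : Fin 9) : qact g.1 '' sprSet i = sprSet (rho0 g i) := g.2.2.choose_spec i

theorem rho0_eq {g : spreadStab} {π : Equiv.Perm (Fin 9)} (h : ∀ i, qact g.1 '' sprSet i = sprSet (π i)) :
    rho0 g = π :=
  Equiv.ext fun i => sprSet_injective ((rho0_spec g i).symm.trans (h i))

theorem rho0_of_fix {g : spreadStab} (h : ∀ q ∈ fixSet f0, qact g.1 q = q) : rho0 g = 1 :=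
  rho0_eq fun i => by
    rw [Set.image_congr fun q hq => h q (sprSet_fix hq), Set.image_id']; rfl

/-- A centralizing map, in the subgroup. -/
noncomputable def genK (k : Fin 2) : spreadStab :=
  ⟨genE k, genE_comm k, nineP k, genE_image k⟩

theorem rho0_genK (k : Fin 2) : rho0 (genK k) = nineP k := rho0_eq (genE_image k)

theorem cyc_check : ∀ i j k : Fin 9, i ≠ j → j ≠ k → i ≠ k →
    ((cycWords.getD (i.val * 81 + j.val * 9 + k.val) []).map fun m => nineP (Fin.ofNat 2 m)).prod =
      Equiv.swap i j * Equiv.swap j k := by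
  decide +kernel

theorem cycle_mem_range {i j k : Fin 9} (hij : i ≠ j) (hjk : j ≠ k) (hik : i ≠ k) :
    Equiv.swap i j * Equiv.swap j k ∈ rho0.range := by
  refine ⟨((cycWords.getD (i.val * 81 + j.val * 9 + k.val) []).map fun m => genK (Fin.ofNat 2 m)).prod, ?_⟩
  rw [← cyc_check i j k hij hjk hik, map_list_prod, List.map_map]
  exact congrArg List.prod (List.map_congr_left fun m _ => rho0_genK _)

theorem alternating_le_range : alternatingGroup (Fin 9) ≤ rho0.range := by
  rw [← Equiv.Perm.closure_three_cycles_eq_alternating, Subgroup.closure_le]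
  intro f hf
  have h3 : f ^ 3 = 1 := by rw [← Equiv.Perm.IsThreeCycle.orderOf hf, pow_orderOf_eq_one]
  obtain ⟨a, ha⟩ : ∃ a, f a ≠ a := by
    by_contra hall
    push_neg at hall
    have h1 : f = 1 := Equiv.ext hall
    subst h1
    exact absurd (Equiv.Perm.IsThreeCycle.orderOf hf) (by simp)
  have hfff : f (f (f a)) = a := by
    have := congrArg (fun g : Equiv.Perm (Fin 9) => g a) h3
    simpa [pow_succ] using this
  have hb : f (f a) ≠ f a := fun h => ha (f.injective h)
  have hc : f (f a) ≠ a := fun h => ha (by rw [h] at hfff; exact hfff)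
  have hmem : ∀ x, x ∈ f.support → x = a ∨ x = f a ∨ x = f (f a) := by
    have hsub : ({a, f a, f (f a)} : Finset (Fin 9)) ⊆ f.support := by
      intro x hx
      simp only [Finset.mem_insert, Finset.mem_singleton] at hx
      rw [Equiv.Perm.mem_support]
      rcases hx with rfl | rfl | rfl
      · exact ha
      · exact hb
      · exact fun h => hb (f.injective h)
    have hcard : f.support.card ≤ ({a, f a, f (f a)} : Finset (Fin 9)).card := by
      rw [Equiv.Perm.IsThreeCycle.card_support hf,
        Finset.card_eq_three.2 ⟨a, f a, f (f a), ha.symm, hc.symm, hb.symm, rfl⟩]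
    intro x hx
    rw [← Finset.eq_of_subset_of_card_le hsub hcard] at hx
    simpa using hx
  have heq : f = Equiv.swap a (f a) * Equiv.swap (f a) (f (f a)) := by
    refine Equiv.ext fun x => ?_
    rw [Equiv.Perm.mul_apply]
    by_cases hx : x ∈ f.support
    · rcases hmem x hx with rfl | rfl | rfl
      · rw [Equiv.swap_apply_of_ne_of_ne ha.symm hc.symm, Equiv.swap_apply_left]
      · rw [Equiv.swap_apply_left, Equiv.swap_apply_of_ne_of_ne hc hb]
      · rw [Equiv.swap_apply_right, Equiv.swap_apply_right, hfff]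
    · rw [Equiv.Perm.mem_support, not_not] at hx
      have h1 : x ≠ a := fun h => ha (h ▸ hx)
      have h2 : x ≠ f a := fun h => hb (h ▸ hx)
      have h3 : x ≠ f (f a) := fun h => hb (f.injective (h ▸ hx))
      rw [Equiv.swap_apply_of_ne_of_ne h2 h3, Equiv.swap_apply_of_ne_of_ne h1 h2, hx]
  rw [SetLike.mem_coe, heq]
  exact cycle_mem_range ha.symm hb.symm hc.symm

/-- The group of order six fixing all fixed classes. -/
noncomputable abbrev baseSub : Subgroup Co0 := Subgroup.center Co0 ⊔ Subgroup.zpowers f0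

theorem base_trivial {g : Co0} (hg : g ∈ baseSub) : ∀ q ∈ fixSet f0, qact g q = q := by
  intro q hq
  let S : Subgroup Co0 :=
    { carrier := {x | qact x q = q}
      one_mem' := qact_one _
      mul_mem' := fun {x y} hx hy => by
        show qact (x * y) q = q
        rw [qact_mul, show qact y q = q from hy, show qact x q = q from hx]
      inv_mem' := fun {x} hx => by
        show qact x⁻¹ q = q
        conv_lhs => rw [← show qact x q = q from hx, qact_inv_self] }
  exact (sup_le (fun x hx => qact_center hx _) (Subgroup.zpowers_le.2 hq) : baseSub ≤ S) hg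

theorem base_le_stab : baseSub ≤ spreadStab := by
  intro g hg
  refine ⟨?_, 1, fun i => ?_⟩
  · exact mem_cenF.1 ((sup_le (Subgroup.center_le_centralizer _) (Subgroup.zpowers_le.2 f0_mem_cenF) :
      baseSub ≤ cenF) hg)
  · rw [Set.image_congr fun q hq => base_trivial hg q (sprSet_fix hq), Set.image_id']; rfl

theorem f0_ne_one : f0 ≠ 1 := by
  intro h
  have e := crossPerm_permHom ⟨sigma, sigma_mem⟩
  have e1 : (⟨permHom ⟨sigma, sigma_mem⟩, permHom_mem _⟩ : crossStab) = 1 := Subtype.ext h
  rw [e1, map_one] at e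
  have h2 : sigma (gpt 0) ≠ gpt 0 := by decide +kernel
  exact h2 (by rw [show sigma = 1 from congrArg Subtype.val e.symm]; rfl)

theorem six_le_card_base : 6 ≤ Nat.card baseSub := by
  haveI := finite_Co0
  haveI : Fact (Nat.Prime 3) := ⟨Nat.prime_three⟩
  have h2 := Subgroup.card_dvd_of_le (le_sup_left : Subgroup.center Co0 ≤ baseSub)
  have h3 := Subgroup.card_dvd_of_le (le_sup_right : Subgroup.zpowers f0 ≤ baseSub)
  rw [card_center_Co0] at h2
  rw [Nat.card_zpowers, orderOf_eq_prime f0_pow_three f0_ne_one] at h3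
  exact Nat.le_of_dvd Nat.card_pos (Nat.Coprime.mul_dvd_of_dvd_of_dvd (by norm_num : Nat.Coprime 2 3) h2 h3)

theorem top_sixty : cls top ∈ sixtySet := ⟨top, (stdCross_subset (e8_mem_stdCross none)).2, rfl⟩

theorem cross_rep (g : crossStab.subgroupOf cenF) : ∃ x : cenP × {m : ℕ // m ∈ fixCodes.toFinset},
    ∀ v : leechLattice, ((g.1.1 • v : leechLattice) : GolayPt → ℤ) = signedPerm x.1.1.1 (mset x.2.1) v := by
  obtain ⟨⟨σ, hσ⟩, c, hcc, hv⟩ := crossStab_monomial ⟨g.1.1, Subgroup.mem_subgroupOf.1 g.2⟩
  obtain ⟨m, hm, rfl⟩ := mem_supports_iff.1 hcc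
  have hcomm : Commute g.1.1 f0 := mem_cenF.1 g.1.2
  have key : ∀ p : GolayPt, σ (sigma p) = sigma (σ p) ∧ (sigma (σ p) ∈ mset m ↔ σ p ∈ mset m) := by
    intro p
    have h1 := congrArg (fun y : leechLattice => (y : GolayPt → ℤ))
      (show g.1.1 • (f0 • e8 p) = f0 • (g.1.1 • e8 p) by rw [← mul_smul, hcomm.eq, mul_smul])
    simp only [hv, f0_coe] at h1
    have h2 := congrFun h1 (σ (sigma p))
    simp only [signedPerm, Equiv.symm_apply_apply, e8, Pi.single_eq_same] at h2
    have heq : σ (sigma p) = sigma (σ p) := by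
      by_contra hne
      rw [Pi.single_eq_of_ne (show σ.symm (sigma.symm (σ (sigma p))) ≠ p from fun e =>
        hne ((Equiv.symm_apply_eq _).1 ((Equiv.symm_apply_eq _).1 e |>.symm ▸ rfl)))] at h2
      split at h2 <;> omega
    refine ⟨heq, ?_⟩
    rw [heq, Equiv.symm_apply_apply, Equiv.symm_apply_apply, Pi.single_eq_same] at h2
    by_cases a : sigma (σ p) ∈ mset m <;> by_cases b : σ p ∈ mset m <;>
      simp only [a, b, if_true, if_false] at h2 ⊢ <;> omega
  have hmc : m ∈ fixCodes := by
    have t := List.all_eq_true.1 fixCodes_check.2 m hm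
    have hall : bits24.all (fun i => m.testBit (pget (sPow 1) i) == m.testBit i) = true := by
      refine List.all_eq_true.2 fun i hi => ?_
      have h1 := (key (σ.symm (gpt ⟨i, mem_bits24.1 hi⟩))).2
      rw [Equiv.apply_symm_apply, mem_mset, mem_mset, rep_sigma, gidx_gpt] at h1
      rw [beq_iff_eq, Bool.eq_iff_iff]
      exact h1
    rw [hall] at t
    simpa using t
  exact ⟨(⟨⟨σ, hσ⟩, Subgroup.mem_centralizer_singleton_iff.2 (Subtype.ext (Equiv.ext fun p => (key p).1))⟩,
    ⟨m, List.mem_toFinset.2 hmc⟩), hv⟩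

theorem card_cross_cen : Nat.card (crossStab.subgroupOf cenF) ≤ 504 * 16 := by
  haveI : Finite cenP := inferInstance
  refine (Nat.card_le_card_of_injective (fun g => (cross_rep g).choose) fun g g' h => ?_).trans ?_
  · refine Subtype.ext (Subtype.ext (Subtype.ext (Equiv.ext fun v => Subtype.ext ?_)))
    show ((g.1.1 • v : leechLattice) : GolayPt → ℤ) = (g'.1.1 • v : leechLattice)
    rw [(cross_rep g).choose_spec, (cross_rep g').choose_spec]
    simp only at h
    rw [h]
  · rw [Nat.card_prod, Nat.card_eq_finsetCard]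
    exact Nat.mul_le_mul card_cenP ((List.toFinset_card_le _).trans fixCodes_check.1.le)

theorem card_cenF : Nat.card cenF ≤ 135 * (504 * 16) := by
  haveI := finite_Co0
  refine (card_le_mul (crossStab.subgroupOf cenF) (fun g => qact g.1 (cls top)) (fixSet f0 ∩ sixtySet)
    ?_ (fun g => ?_) fun g g' h => ?_).trans
    (Nat.mul_le_mul ncard_fix_sixty_le card_cross_cen)
  · rw [fixSet_eq]; exact (Set.finite_range _).subset Set.inter_subset_left
  · refine ⟨?_, ?_⟩
    · show qact f0 (qact g.1 (cls top)) = qact g.1 (cls top)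
      rw [← qact_mul, ← (mem_cenF.1 g.2).eq, qact_mul, mem_crossStab_iff_cls.1 f0_mem_crossStab]
    · obtain ⟨v, hv, e⟩ := top_sixty
      refine ⟨g.1 • v, (co0_sqNorm g.1 v).trans hv, ?_⟩
      rw [← e]; rfl
  · refine Subgroup.mem_subgroupOf.2 (mem_crossStab_iff_cls.2 ?_)
    show qact (g.1⁻¹ * g'.1) (cls top) = cls top
    rw [qact_mul, show qact g'.1 (cls top) = qact g.1 (cls top) from h.symm, qact_inv_self]

theorem stab_le_cenF : spreadStab ≤ cenF := fun _ h => mem_cenF.2 h.1

theorem card_alt : Nat.card (alternatingGroup (Fin 9)) = 181440 := by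
  rw [nat_card_alternatingGroup, Nat.card_fin]
  decide +kernel

theorem structure_facts :
    spreadStab = cenF ∧ rho0.range = alternatingGroup (Fin 9) ∧ rho0.ker = baseSub.subgroupOf spreadStab := by
  haveI := finite_Co0
  have hker : baseSub.subgroupOf spreadStab ≤ rho0.ker := fun g hg => rho0_of_fix (base_trivial hg)
  have h1 := Subgroup.card_le_of_le hker
  rw [Nat.card_congr (Subgroup.subgroupOfEquivOfLe base_le_stab).toEquiv] at h1
  have h2 := Subgroup.card_le_of_le alternating_le_range
  rw [card_alt] at h2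
  have h3 : Nat.card rho0.ker * Nat.card rho0.range = Nat.card spreadStab := by
    rw [← Subgroup.index_ker, Subgroup.card_mul_index]
  have h4 := Subgroup.card_le_of_le stab_le_cenF
  have h5 := card_cenF
  have h6 := six_le_card_base
  have e1 : Nat.card rho0.ker = 6 := by nlinarith
  have e2 : Nat.card rho0.range = 181440 := by nlinarith
  refine ⟨Subgroup.eq_of_le_of_card_ge stab_le_cenF ?_, (Subgroup.eq_of_le_of_card_ge alternating_le_range ?_).symm,
    (Subgroup.eq_of_le_of_card_ge hker ?_).symm⟩
  · rw [← h3, e1, e2]; exact h5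
  · rw [card_alt, e2]
  · rw [Nat.card_congr (Subgroup.subgroupOfEquivOfLe base_le_stab).toEquiv, e1]; exact h6

/-- The representation on the spaces. -/
noncomputable def rho : cenF →* alternatingGroup (Fin 9) :=
  (rho0.comp (Subgroup.inclusion structure_facts.1.ge)).codRestrict _ fun g =>
    (SetLike.ext_iff.1 structure_facts.2.1 _).1 ⟨_, rfl⟩

theorem rho_surjective : Function.Surjective rho := by
  intro x
  obtain ⟨g, hg⟩ := structure_facts.2.1.ge x.2
  exact ⟨⟨g.1, structure_facts.1.le g.2⟩, Subtype.ext hg⟩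

theorem rho_eq_one_iff (g : cenF) : rho g = 1 ↔ g.1 ∈ Subgroup.center Co0 ⊔ Subgroup.zpowers f0 := by
  rw [Subtype.ext_iff, show ((rho g : alternatingGroup (Fin 9)) : Equiv.Perm (Fin 9)) =
    rho0 (Subgroup.inclusion structure_facts.1.ge g) from rfl, OneMemClass.coe_one, ← MonoidHom.mem_ker,
    SetLike.ext_iff.1 structure_facts.2.2, Subgroup.mem_subgroupOf]
  rfl

theorem rho_eq_one_of_fix (g : cenF) (h : ∀ q ∈ fixSet f0, qact g.1 q = q) : rho g = 1 :=
  Subtype.ext (rho0_of_fix h)

end Cfsg.Lib.MonsterThree
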